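import Mathlib
import Groth.Prelude.Def_Flat
import Groth.Agent.Lib.Helper4.LocalDimEtale1
import Groth.Agent.Lib.Helper4.Chev2

/-!
# The local dimension of fibres is étale local on source and target (S7408) (helper2)
-/

set_option autoImplicit false
set_option linter.style.haveILetI false
set_option linter.unusedSectionVars false
set_option backward.isDefEq.respectTransparency.types false
universe u

namespace Groth.Agent.Helper2.FibDim

open CategoryTheory CategoryTheory.Limits AlgebraicGeometry TensorProduct TopologicalSpace Topology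

/-- a continuous open generalizing map without specializations inside its fibres preserves the
local dimension -/
theorem localDim_eq_of_isOpenMap_of_generalizing {A B : Type*} [TopologicalSpace A]
    [TopologicalSpace B] [QuasiSober A] [T0Space A] [QuasiSober B] [T0Space B] (α : A → B)
    (hc : Continuous α) (hopen : IsOpenMap α) (hgen : GeneralizingMap α)
    (hstrict : ∀ x x' : A, x ⤳ x' → α x = α x' → x = x') (t : A) :
    FlatMor.localDim A t = FlatMor.localDim B (α t) := by
  unfold FlatMor.localDim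
  apply le_antisymm
  · refine le_iInf fun W' => ?_
    have hWo : IsOpen (α ⁻¹' (W'.1 : Set B)) := W'.1.2.preimage hc
    refine (iInf_le _ (⟨⟨α ⁻¹' (W'.1 : Set B), hWo⟩, W'.2⟩ : {W : Opens A // t ∈ W})).trans ?_
    haveI : QuasiSober ↥(α ⁻¹' (W'.1 : Set B)) := hWo.isOpenEmbedding_subtypeVal.quasiSober
    haveI : QuasiSober ↥(W'.1 : Set B) := W'.1.2.isOpenEmbedding_subtypeVal.quasiSober
    let g : ↥(α ⁻¹' (W'.1 : Set B)) → ↥(W'.1 : Set B) := fun x => ⟨α x.1, x.2⟩
    apply Groth.Agent.Lib.Helper4.LocalDimEtale1.topologicalKrullDim_le_of_strict g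
    · exact (hc.comp continuous_subtype_val).subtype_mk _
    · intro x x' hsp hg
      apply Subtype.ext
      apply hstrict
      · exact Topology.IsInducing.subtypeVal.specializes_iff.mpr hsp
      · exact congrArg Subtype.val hg
  · refine le_iInf fun W => ?_
    have hWo : IsOpen (α '' (W.1 : Set A)) := hopen _ W.1.2
    refine (iInf_le _ (⟨⟨α '' (W.1 : Set A), hWo⟩, ⟨t, W.2, rfl⟩⟩ :
      {W : Opens B // α t ∈ W})).trans ?_
    haveI : QuasiSober ↥(α '' (W.1 : Set A)) := hWo.isOpenEmbedding_subtypeVal.quasiSober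
    haveI : QuasiSober ↥(W.1 : Set A) := W.1.2.isOpenEmbedding_subtypeVal.quasiSober
    let g : ↥(W.1 : Set A) → ↥(α '' (W.1 : Set A)) := fun x => ⟨α x.1, ⟨x.1, x.2, rfl⟩⟩
    apply Groth.Agent.Helper4.GM.topologicalKrullDim_le_of_generalizing g
    · exact (hc.comp continuous_subtype_val).subtype_mk _
    · rintro ⟨_, ⟨x, hx, rfl⟩⟩
      exact ⟨⟨x, hx⟩, rfl⟩
    · intro x y hy
      have h1 : (y : B) ⤳ α x.1 := Specializes.map hy continuous_subtype_val
      obtain ⟨x', hx', hαx'⟩ := hgen h1
      have hx'W : x' ∈ (W.1 : Set A) := hx'.mem_open W.1.2 x.2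
      refine ⟨⟨x', hx'W⟩, ?_, Subtype.ext hαx'⟩
      exact Topology.IsInducing.subtypeVal.specializes_iff.mp hx'

/-- the local dimension of the fibre through a point, computed on the topological fibre (no
finiteness hypothesis) -/
theorem fibreDimAt_eq_localDim_preimage' {X Y : Scheme.{u}} (f : X ⟶ Y) (x : X) (y : Y)
    (hy : f x = y) :
    FlatMor.fibreDimAt f x = FlatMor.localDim ↥(f.base ⁻¹' {y}) ⟨x, hy⟩ := by
  subst hy
  unfold FlatMor.fibreDimAt
  rw [Groth.Agent.Lib.Helper4.Chev2.localDim_homeomorph (f.fiberHomeo (f x)) (f.asFiber x)]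
  congr 1
  exact (f.fiberHomeo (f x)).apply_symm_apply _

theorem S7408_main {U U' V V' : Scheme.{u}} (h : U ⟶ V) (h' : U' ⟶ V') (a : U' ⟶ U)
    (b : V' ⟶ V) [Etale a] [Etale b] (comm : h' ≫ b = a ≫ h) (u' : U') :
    FlatMor.fibreDimAt h (a u') = FlatMor.fibreDimAt h' u' := by
  haveI : LocallyQuasiFinite a :=
    Groth.Agent.Lib.Helper4.LocalDimEtale1.locallyQuasiFinite_of_unramified a
  haveI : LocallyQuasiFinite b :=
    Groth.Agent.Lib.Helper4.LocalDimEtale1.locallyQuasiFinite_of_unramified b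
  obtain ⟨v', hv'⟩ : ∃ v' : V', v' = h' u' := ⟨_, rfl⟩
  obtain ⟨v, hv⟩ : ∃ v : V, v = b v' := ⟨_, rfl⟩
  have hcomm : ∀ z : U', h (a z) = b (h' z) := by
    intro z
    rw [← Scheme.Hom.comp_apply, ← comm, Scheme.Hom.comp_apply]
  have hau' : h (a u') = v := by rw [hcomm, ← hv', hv]
  rw [fibreDimAt_eq_localDim_preimage' h (a u') v hau',
    fibreDimAt_eq_localDim_preimage' h' u' v' hv'.symm]
  -- the map between the topological fibres
  have hmaps : ∀ z : U', z ∈ h'.base ⁻¹' {v'} → a z ∈ h.base ⁻¹' {v} := by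
    intro z hz
    have hz' : h' z = v' := hz
    change h (a z) = v
    rw [hcomm, hz', hv]
  let α : ↥(h'.base ⁻¹' {v'}) → ↥(h.base ⁻¹' {v}) := fun z => ⟨a z.1, hmaps z.1 z.2⟩
  haveI : QuasiSober ↥(h'.base ⁻¹' {v'}) := (h'.fiberHomeo v').symm.isClosedEmbedding.quasiSober
  haveI : QuasiSober ↥(h.base ⁻¹' {v}) := (h.fiberHomeo v).symm.isClosedEmbedding.quasiSober
  have hc : Continuous α := (a.continuous.comp continuous_subtype_val).subtype_mk _
  -- a point of `U'` over `v` close to the fibre over `v'` lies in that fibre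
  have hfib : ∀ z : U', h (a z) = v → h' z ⤳ v' → h' z = v' := by
    intro z hz hsp
    apply Groth.Agent.Lib.Helper4.LocalDimEtale1.eq_of_specializes_of_isDiscrete_fibre b hsp
    rw [← hcomm, hz, hv]
  have hgen : GeneralizingMap α := by
    intro x y hy
    have h1 : (y : U) ⤳ a x.1 := Specializes.map hy continuous_subtype_val
    haveI : Flat a := inferInstance
    obtain ⟨x', hx', hax'⟩ := (Flat.generalizingMap a) h1
    have hx'v : h' x' = v' := by
      apply hfib x'
      · rw [hax']; exact y.2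
      · have := hx'.map h'.continuous
        rwa [show h' x.1 = v' from x.2] at this
    refine ⟨⟨x', hx'v⟩, ?_, Subtype.ext hax'⟩
    exact Topology.IsInducing.subtypeVal.specializes_iff.mp hx'
  have hstrict : ∀ x x' : ↥(h'.base ⁻¹' {v'}), x ⤳ x' → α x = α x' → x = x' := by
    intro x x' hsp hα
    apply Subtype.ext
    apply Groth.Agent.Lib.Helper4.LocalDimEtale1.eq_of_specializes_of_isDiscrete_fibre a
    · exact Topology.IsInducing.subtypeVal.specializes_iff.mpr hsp
    · exact congrArg Subtype.val hα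
  have hopen : IsOpenMap α := by
    -- `{v'}` is open in the fibre of `b` over `v`
    have hd := (b.isDiscrete_preimage_singleton v).to_subtype
    have hv'mem : v' ∈ b.base ⁻¹' {v} := hv.symm
    have hsing : IsOpen ({⟨v', hv'mem⟩} : Set ↥(b.base ⁻¹' {v})) := isOpen_discrete _
    obtain ⟨N, hN, hNeq⟩ := isOpen_induced_iff.mp hsing
    have hNv' : v' ∈ N := by
      have : (⟨v', hv'mem⟩ : ↥(b.base ⁻¹' {v})) ∈ Subtype.val ⁻¹' N := by
        rw [hNeq]; exact rfl
      exact this
    have hNonly : ∀ w : V', w ∈ N → b w = v → w = v' := by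
      intro w hwN hwv
      have : (⟨w, hwv⟩ : ↥(b.base ⁻¹' {v})) ∈ Subtype.val ⁻¹' N := hwN
      rw [hNeq] at this
      exact congrArg Subtype.val this
    intro W' hW'
    obtain ⟨O', hO', hO'eq⟩ := isOpen_induced_iff.mp hW'
    have haopen : IsOpen (a.base '' (O' ∩ h'.base ⁻¹' N)) :=
      a.isOpenMap _ (hO'.inter (hN.preimage h'.continuous))
    refine isOpen_induced_iff.mpr ⟨a.base '' (O' ∩ h'.base ⁻¹' N), haopen, ?_⟩
    ext y
    constructor
    · rintro ⟨z, ⟨hzO', hzN⟩, hzy⟩
      have hzv' : h' z = v' := by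
        apply hNonly _ hzN
        rw [← hcomm, hzy]
        exact y.2
      refine ⟨⟨z, hzv'⟩, ?_, Subtype.ext hzy⟩
      rw [← hO'eq]
      exact hzO'
    · rintro ⟨x, hxW', rfl⟩
      refine ⟨x.1, ⟨?_, ?_⟩, rfl⟩
      · have : x ∈ Subtype.val ⁻¹' O' := by rw [hO'eq]; exact hxW'
        exact this
      · change h' x.1 ∈ N
        rw [show h' x.1 = v' from x.2]
        exact hNv'
  exact (localDim_eq_of_isOpenMap_of_generalizing α hc hopen hgen hstrict ⟨u', hv'.symm⟩).symm

end Groth.Agent.Helper2.FibDim
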