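import Mathlib
import Groth.Prelude.Def_Flat
import Groth.Agent.Lib.Helper4.FibDimComp1
import Groth.Agent.Lib.Helper4.LocalDimEtale1

/-!
# The local ring of a fibre: dimension formula without Noetherian hypotheses, and étale locality
(helper2)
-/

set_option autoImplicit false
set_option linter.style.haveILetI false
set_option linter.unusedSectionVars false
set_option backward.isDefEq.respectTransparency.types false
universe u

namespace Groth.Agent.Helper2.FibDim

open CategoryTheory CategoryTheory.Limits AlgebraicGeometry TensorProduct TopologicalSpace Topology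
open Groth.Agent.Lib.Helper4.FibDim1 Groth.Agent.Lib.Helper4.FibDim2

/-- the local dimension of the fibre is the dimension of the local ring of the fibre plus the
residual transcendence degree (no Noetherian hypothesis on the base) -/
theorem fibreDimAt_eq_stalk_add_tr {X Y : Scheme.{u}} (f : X ⟶ Y) [LocallyOfFiniteType f] (x : X) :
    FlatMor.fibreDimAt f x =
      ringKrullDim ((f.fiber (f x)).presheaf.stalk (f.asFiber x)) + (tr f x : WithBot ℕ∞) := by
  haveI : LocallyOfFiniteType (f.fiberToSpecResidueField (f x)) :=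
    MorphismProperty.pullback_snd _ _ inferInstance
  have h1 := Groth.Agent.Lib.Helper4.FibDim3.fibreDimAt_eq (f.fiberToSpecResidueField (f x))
    (f.asFiber x)
  rw [Groth.Agent.Lib.Helper4.Aff2.fibreDimAt_fiber, Groth.Agent.Lib.Helper4.Aff2.tr_fiber,
    f.fiberι_asFiber x] at h1
  rw [h1]
  congr 1
  rw [stalk_fiber_dim (f.fiberToSpecResidueField (f x)) (f.asFiber x),
    AlgebraicGeometry.ringKrullDim_stalk_eq_coheight (f.asFiber x)]
  have hall : ∀ w' : f.fiber (f x), (f.fiberToSpecResidueField (f x)) w' =
      (f.fiberToSpecResidueField (f x)) (f.asFiber x) := by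
    intro w'
    rw [Scheme.Hom.fiberToSpecResidueField_apply, Scheme.Hom.fiberToSpecResidueField_apply]
  let e : {z : f.fiber (f x) // (f.fiberToSpecResidueField (f x)) z =
      (f.fiberToSpecResidueField (f x)) (f.asFiber x)} ≃o f.fiber (f x) :=
    { toFun := Subtype.val
      invFun := fun z => ⟨z, hall z⟩
      left_inv := fun z => rfl
      right_inv := fun z => rfl
      map_rel_iff' := Iff.rfl }
  have := Order.coheight_orderIso e ⟨f.asFiber x, rfl⟩
  change Order.coheight (f.asFiber x) = _ at this
  rw [this]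

/-- the dimension of the local ring of the fibre is étale local on source and target -/
theorem stalk_fiber_dim_etale {U U' V V' : Scheme.{u}} (h : U ⟶ V) (h' : U' ⟶ V') (a : U' ⟶ U)
    (b : V' ⟶ V) [Etale a] [Etale b] (comm : h' ≫ b = a ≫ h) (u' : U') :
    ringKrullDim ((h.fiber (h (a u'))).presheaf.stalk (h.asFiber (a u'))) =
      ringKrullDim ((h'.fiber (h' u')).presheaf.stalk (h'.asFiber u')) := by
  haveI : LocallyQuasiFinite a :=
    Groth.Agent.Lib.Helper4.LocalDimEtale1.locallyQuasiFinite_of_unramified a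
  haveI : LocallyQuasiFinite b :=
    Groth.Agent.Lib.Helper4.LocalDimEtale1.locallyQuasiFinite_of_unramified b
  rw [stalk_fiber_dim h (a u'), stalk_fiber_dim h' u']
  have hcomm : ∀ z : U', h (a z) = b (h' z) := by
    intro z
    rw [← Scheme.Hom.comp_apply, ← comm, Scheme.Hom.comp_apply]
  let α : {z' : U' // h' z' = h' u'} → {z : U // h z = h (a u')} :=
    fun z' => ⟨a z'.1, by rw [hcomm, z'.2, ← hcomm]⟩
  have hα : StrictMono α := by
    intro z₁ z₂ hlt
    have hle : z₂.1 ⤳ z₁.1 := hlt.le
    refine lt_of_le_not_ge (hle.map a.continuous) fun hge => ?_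
    have hge' : a z₁.1 ⤳ a z₂.1 := hge
    have heq : a z₂.1 = a z₁.1 := ((hle.map a.continuous).antisymm hge').eq
    have := Groth.Agent.Lib.Helper4.LocalDimEtale1.eq_of_specializes_of_isDiscrete_fibre a hle heq
    exact (ne_of_lt hlt) (Subtype.ext this.symm)
  have hlift : ∀ (x' : {z' : U' // h' z' = h' u'}) (p : {z : U // h z = h (a u')}), α x' < p →
      ∃ z' : {z' : U' // h' z' = h' u'}, x' < z' ∧ α z' = p := by
    intro x' p hlt
    have hsp : p.1 ⤳ a x'.1 := hlt.le
    haveI : Flat a := inferInstance
    obtain ⟨z', hz'sp, hz'p⟩ := (Flat.generalizingMap a) hsp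
    have hz'fib : h' z' = h' u' := by
      have h1 : h' z' ⤳ h' x'.1 := hz'sp.map h'.continuous
      rw [x'.2] at h1
      apply Groth.Agent.Lib.Helper4.LocalDimEtale1.eq_of_specializes_of_isDiscrete_fibre b h1
      rw [← hcomm, ← hcomm, hz'p, p.2]
    refine ⟨⟨z', hz'fib⟩, ?_, Subtype.ext hz'p⟩
    refine lt_of_le_not_ge hz'sp fun hge => ?_
    have hge' : x'.1 ⤳ z' := hge
    have heq : z' = x'.1 := (hz'sp.antisymm hge').eq
    apply ne_of_lt hlt
    apply Subtype.ext
    change a x'.1 = p.1
    rw [← hz'p, heq]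
  have key := Order.coheight_eq_of_strictMono α hα hlift ⟨u', rfl⟩
  rw [key]

end Groth.Agent.Helper2.FibDim
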