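import Mathlib
import Groth.Prelude.Def_Flat
import Groth.Agent.Lib.Helper4.RelDim1
import Groth.Agent.Lib.Helper2.FibDim.StalkFibre

/-!
# Flat morphisms with all fibre dimensions equal to `d`: the local dimension formula (helper2)

A variant of helper4's `RelDim1.S9359_main` with the hypothesis expressed through
`FlatMor.fibreDimAt`.
-/

set_option backward.isDefEq.respectTransparency.types false
set_option autoImplicit false
set_option linter.unusedSectionVars false
set_option linter.style.haveILetI false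
universe u
open CategoryTheory CategoryTheory.Limits AlgebraicGeometry TopologicalSpace Topology
open Groth.Agent.Lib.Helper4.FibDim1 Groth.Agent.Lib.Helper4.RelDim1
open Groth.Agent.Lib.Helper4.DimIneq4 Groth.Agent.Lib.Helper4.DimFT2

namespace Groth.Agent.Helper2.FibDim

variable {X Y : Scheme.{u}} (f : X ⟶ Y) [LocallyOfFiniteType f]

theorem dim_opens_eq_of_flat_of_fibreDimAt [Flat f] [IsLocallyNoetherian Y] (d : ℕ)
    (U : X.Opens) (hd : ∀ u ∈ U, FlatMor.fibreDimAt f u = (d : WithBot ℕ∞))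
    (V : Y.Opens) (hV : (V : Set Y) = f '' (U : Set X)) :
    topologicalKrullDim ↥(U : Set X) = topologicalKrullDim ↥(V : Set Y) + (d : WithBot ℕ∞) := by
  rw [dim_opens_eq_iSup X U, dim_opens_eq_iSup Y V]
  have e2 : ∀ y y' : Y, y = y' →
      ringKrullDim (Y.presheaf.stalk y) = ringKrullDim (Y.presheaf.stalk y') := by
    rintro y _ rfl; rfl
  apply le_antisymm
  · refine iSup_le fun u => ?_
    rw [stalk_dim_eq_of_flat f u.1]
    have hfu : f u.1 ∈ (V : Set Y) := by
      rw [hV]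
      exact ⟨u.1, u.2, rfl⟩
    have h1 : ringKrullDim ((f.fiber (f u.1)).presheaf.stalk (f.asFiber u.1)) ≤ d := by
      rw [← hd u.1 u.2, fibreDimAt_eq_stalk_add_tr f u.1]
      exact le_add_of_nonneg_right (by exact_mod_cast Nat.zero_le _)
    exact add_le_add
      (le_iSup (fun v : ↥(V : Set Y) => ringKrullDim (Y.presheaf.stalk v.1)) ⟨f u.1, hfu⟩) h1
  · apply iSup_add_natCast_le
    intro v
    have hv : v.1 ∈ f '' (U : Set X) := by
      rw [← hV]
      exact v.2
    obtain ⟨u₀, hu₀U, hu₀⟩ := hv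
    obtain ⟨u, huU, hfu, htr⟩ := exists_tr_zero_mem f (U : Set X) U.isOpen u₀ hu₀U
    have h1 := (fibreDimAt_eq_stalk_add_tr f u).symm.trans (hd u huU)
    rw [htr, Nat.cast_zero, add_zero] at h1
    have h2 := stalk_dim_eq_of_flat f u
    rw [h1, e2 _ _ (hfu.trans hu₀)] at h2
    rw [← h2]
    exact le_iSup (fun u : ↥(U : Set X) => ringKrullDim (X.presheaf.stalk u.1)) ⟨u, huU⟩

theorem localDim_eq_add_of_fibreDimAt {X Y : Scheme.{u}} [IsLocallyNoetherian Y] (f : X ⟶ Y)
    [Flat f] [LocallyOfFiniteType f] (d : ℕ)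
    (hd : ∀ u : X, FlatMor.fibreDimAt f u = (d : WithBot ℕ∞)) (x : X) :
    FlatMor.localDim ↑X x = FlatMor.localDim ↑Y (f.base x) + (d : WithBot ℕ∞) := by
  haveI : LocallyOfFinitePresentation f :=
    LocallyOfFinitePresentation.iff_locallyOfFiniteType.2 inferInstance
  have hopen : IsOpenMap f := f.isOpenMap
  unfold FlatMor.localDim
  apply le_antisymm
  · haveI : Nonempty {V : TopologicalSpace.Opens Y // f x ∈ V} := ⟨⟨⊤, trivial⟩⟩
    obtain ⟨V₀, hV₀⟩ := ciInf_mem
      (fun V : {V : TopologicalSpace.Opens Y // f x ∈ V} => topologicalKrullDim ↥(V.1 : Set Y))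
    rw [← hV₀]
    have hxU : x ∈ f ⁻¹ᵁ V₀.1 := V₀.2
    refine (iInf_le _ (⟨f ⁻¹ᵁ V₀.1, hxU⟩ : {U : TopologicalSpace.Opens X // x ∈ U})).trans ?_
    have h1 := dim_opens_eq_of_flat_of_fibreDimAt f d (f ⁻¹ᵁ V₀.1) (fun u _ => hd u)
      ⟨f '' ((f ⁻¹ᵁ V₀.1 : X.Opens) : Set X), hopen _ (f ⁻¹ᵁ V₀.1).isOpen⟩ rfl
    change topologicalKrullDim ↥((f ⁻¹ᵁ V₀.1 : X.Opens) : Set X) ≤ _
    rw [h1]
    refine add_le_add ?_ le_rfl
    apply topologicalKrullDim_mono
    rintro _ ⟨a, ha, rfl⟩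
    exact ha
  · refine le_iInf fun U => ?_
    have h1 := dim_opens_eq_of_flat_of_fibreDimAt f d U.1 (fun u _ => hd u)
      ⟨f '' (U.1 : Set X), hopen _ U.1.isOpen⟩ rfl
    change _ ≤ topologicalKrullDim ↥(U.1 : Set X)
    rw [h1]
    refine add_le_add ?_ le_rfl
    exact iInf_le (fun V : {V : TopologicalSpace.Opens Y // f x ∈ V} =>
      topologicalKrullDim ↥(V.1 : Set Y))
      ⟨⟨f '' (U.1 : Set X), hopen _ U.1.isOpen⟩, ⟨x, U.2, rfl⟩⟩

end Groth.Agent.Helper2.FibDim
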