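import Mathlib
import Groth.Prelude.Def_Flat
import Groth.Agent.Lib.Helper4.FibDimBC2

/-!
# Local dimension and base change of the ground field (helper2)
-/

set_option autoImplicit false
set_option linter.style.haveILetI false
set_option linter.unusedSectionVars false
set_option backward.isDefEq.respectTransparency.types false
universe u

namespace Groth.Agent.Helper2.FibDim

open CategoryTheory CategoryTheory.Limits AlgebraicGeometry TensorProduct

/-- over a field, the local fibre dimension is the local dimension of the source -/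
theorem fibreDimAt_over_field (k : Type u) [Field k] {X : Scheme.{u}}
    (f : X ⟶ Spec (CommRingCat.of k)) [LocallyOfFiniteType f] (x : X) :
    FlatMor.fibreDimAt f x = FlatMor.localDim X x := by
  rw [Groth.Agent.Lib.Helper4.Chev9.fibreDimAt_eq_localDim_preimage f x (f x) rfl]
  have huniv : (f.base ⁻¹' {f x} : Set X) = Set.univ := by
    ext z
    simp only [Set.mem_preimage, Set.mem_singleton_iff, Set.mem_univ, iff_true]
    exact Subsingleton.elim (α := PrimeSpectrum k) _ _
  exact Groth.Agent.Lib.Helper4.Chev2.localDim_homeomorph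
    ((Homeomorph.setCongr huniv).trans (Homeomorph.Set.univ X)) ⟨x, rfl⟩

/-- the base change square of an algebra over a field, on spectra -/
theorem isPullback_Spec_tensor (k S K : Type u) [CommRing k] [CommRing S] [Algebra k S]
    [CommRing K] [Algebra k K] :
    IsPullback
      (Spec.map (CommRingCat.ofHom
        (Algebra.TensorProduct.includeRight.toRingHom : S →+* K ⊗[k] S)))
      (Spec.map (CommRingCat.ofHom (algebraMap K (K ⊗[k] S))))
      (Spec.map (CommRingCat.ofHom (algebraMap k S)))
      (Spec.map (CommRingCat.ofHom (algebraMap k K))) := by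
  have hpo := CommRingCat.isPushout_tensorProduct k K S
  exact (isPullback_SpecMap_of_isPushout _ _ _ _ hpo).flip

/-- **S2142** -/
theorem S2142_main {k S K : Type u} [Field k] [CommRing S] [Algebra k S]
    [Algebra.FiniteType k S] [Field K]
    [Algebra k K] (q : Ideal S) [q.IsPrime] (qK : Ideal (K ⊗[k] S)) [qK.IsPrime]
    (hq : qK.comap (Algebra.TensorProduct.includeRight.toRingHom : S →+* K ⊗[k] S) = q) :
    FlatMor.localDim (PrimeSpectrum (K ⊗[k] S)) ⟨qK, inferInstance⟩ =
      FlatMor.localDim (PrimeSpectrum S) ⟨q, inferInstance⟩ := by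
  have hpb := isPullback_Spec_tensor k S K
  obtain ⟨f, hf⟩ : ∃ f : Spec (CommRingCat.of S) ⟶ Spec (CommRingCat.of k),
      f = Spec.map (CommRingCat.ofHom (algebraMap k S)) := ⟨_, rfl⟩
  obtain ⟨f', hf'⟩ : ∃ f' : Spec (CommRingCat.of (K ⊗[k] S)) ⟶ Spec (CommRingCat.of K),
      f' = Spec.map (CommRingCat.ofHom (algebraMap K (K ⊗[k] S))) := ⟨_, rfl⟩
  obtain ⟨g', hg'⟩ : ∃ g' : Spec (CommRingCat.of (K ⊗[k] S)) ⟶ Spec (CommRingCat.of S),
      g' = Spec.map (CommRingCat.ofHom
        (Algebra.TensorProduct.includeRight.toRingHom : S →+* K ⊗[k] S)) := ⟨_, rfl⟩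
  rw [← hf, ← hf', ← hg'] at hpb
  haveI : LocallyOfFiniteType f := by
    rw [hf, HasRingHomProperty.Spec_iff (P := @LocallyOfFiniteType)]
    rw [CommRingCat.hom_ofHom, RingHom.finiteType_algebraMap]
    infer_instance
  haveI : LocallyOfFiniteType f' := MorphismProperty.of_isPullback hpb inferInstance
  have h1 := Groth.Agent.Lib.Helper4.FibDimBC2.fibreDimAt_abs f _ g' f' hpb
    (⟨qK, inferInstance⟩ : PrimeSpectrum (K ⊗[k] S))
  rw [fibreDimAt_over_field K f', fibreDimAt_over_field k f] at h1
  refine h1.trans ?_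
  congr 1
  rw [hg']
  exact PrimeSpectrum.ext hq

end Groth.Agent.Helper2.FibDim
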