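import Mathlib
import Groth.Prelude.Def_Flat
import Groth.Prelude.Def_Dual3
import Groth.Agent.Lib.Helper4.FibDimComp1
import Groth.Agent.Lib.Helper4.FTDim2
import Groth.Agent.Lib.Helper4.Chev6
import Groth.Agent.Lib.Helper4.JacDim2
import Groth.Agent.Lib.Helper2.Sch.FibreDimZero

/-!
# Quasi-finiteness over points of codimension at most one (helper2)
-/

set_option autoImplicit false
set_option linter.style.haveILetI false
set_option linter.unusedSectionVars false
set_option backward.isDefEq.respectTransparency.types false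
universe u

namespace Groth.Agent.Helper2.FibDim

open CategoryTheory CategoryTheory.Limits AlgebraicGeometry TensorProduct TopologicalSpace Topology
open Groth.Agent.Lib.Helper4.FibDim1

/-- the residue transcendence degree of the prelude is `tr` -/
theorem resTrdeg_eq_tr {U V : Scheme.{u}} (h : U ⟶ V) [LocallyOfFiniteType h] (u : U) :
    Dual3.resTrdeg h u = (tr h u : Cardinal.{u}) := tr_spec h u

theorem resTrdeg_eq_zero_of_quasiFiniteAt {U V : Scheme.{u}} (h : U ⟶ V) [LocallyOfFiniteType h]
    (u : U) (hq : h.QuasiFiniteAt u) : Dual3.resTrdeg h u = 0 := by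
  rw [resTrdeg_eq_tr]
  have h1 := Groth.Agent.Lib.Helper4.FibDimComp1.tr_le_fibreDimAt' h u
  rw [(Groth.Agent.Helper2.FibreDimZero.fibreDimAt_eq_zero_iff u).2 hq] at h1
  have h2 : tr h u ≤ 0 := by exact_mod_cast h1
  have h3 : tr h u = 0 := Nat.le_zero.1 h2
  rw [h3]
  rfl

/-- If the target point has codimension at most one and all the maximal points of the source whose
image specializes to it have residue transcendence degree zero, then the morphism is quasi-finite at
every point over it. -/
theorem quasiFiniteAt_of_codim_le_one {U V : Scheme.{u}} [IsLocallyNoetherian V] (h : U ⟶ V)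
    [LocallyOfFiniteType h] (u : U) (hv : ringKrullDim (V.presheaf.stalk (h u)) ≤ 1)
    (hgen : ∀ ξ : U, closure ({ξ} : Set U) ∈ irreducibleComponents U → h ξ ⤳ h u →
      Dual3.resTrdeg h ξ = 0) :
    h.QuasiFiniteAt u := by
  rw [← Groth.Agent.Helper2.FibreDimZero.fibreDimAt_eq_zero_iff]
  obtain ⟨z, hz, hzu, -, hfd⟩ := Groth.Agent.Lib.Helper4.FibDimComp1.exists_fibreMax_tr_eq h u
  rw [hfd]
  have hgen' : ∀ ξ : U, closure ({ξ} : Set U) ∈ irreducibleComponents U → h ξ ⤳ h u →
      tr h ξ = 0 := by
    intro ξ hξ hsp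
    have h1 := hgen ξ hξ hsp
    rw [resTrdeg_eq_tr] at h1
    exact_mod_cast h1
  suffices htr : tr h z = 0 by rw [htr]; rfl
  by_cases hmax : ∀ t : U, t ⤳ z → t = z
  · exact hgen' z (Groth.Agent.Lib.Helper4.Chev6.closure_mem_irreducibleComponents_of_max z hmax)
      (by rw [hz])
  · have hineq := Groth.Agent.Lib.Helper4.DimIneq2.S9687_main h z (tr h z) 0 (tr_spec h z) (by
      intro ξ hξ hsp
      have h1 : h ξ ⤳ h u := by
        rw [← hz]; exact hsp.map h.continuous
      have := tr_spec h ξ
      rw [hgen' ξ hξ h1] at this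
      rw [this])
    have hnm : ¬ IsMax z := by
      intro hm
      apply hmax
      intro t ht
      have h1 : z ≤ t := ht
      have h2 : t ≤ z := hm h1
      exact (Specializes.antisymm ht h2).eq
    have hco : Order.coheight z ≠ 0 := by
      rw [Ne, Order.coheight_eq_zero]; exact hnm
    have hco1 : (1 : ℕ∞) ≤ Order.coheight z := Order.one_le_iff_ne_zero.mpr hco
    rw [AlgebraicGeometry.ringKrullDim_stalk_eq_coheight z] at hineq
    rw [← hz] at hv
    have h1 : ((Order.coheight z : ℕ∞) : WithBot ℕ∞) + ((tr h z : ℕ) : WithBot ℕ∞) ≤ 1 := by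
      refine le_trans hineq ?_
      simpa using hv
    have h2 : ((Order.coheight z + (tr h z : ℕ∞) : ℕ∞) : WithBot ℕ∞) ≤
        ((1 : ℕ∞) : WithBot ℕ∞) := by
      push_cast
      exact h1
    rw [WithBot.coe_le_coe] at h2
    have h3 : (1 : ℕ∞) + (tr h z : ℕ∞) ≤ 1 := le_trans (add_le_add_left hco1 _) h2
    have h4 : ((1 + tr h z : ℕ) : ℕ∞) ≤ ((1 : ℕ) : ℕ∞) := by push_cast; exact h3
    have h5 : 1 + tr h z ≤ 1 := by exact_mod_cast h4
    omega

end Groth.Agent.Helper2.FibDim
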