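import Mathlib
import Groth.Prelude.Def_Flat
import Groth.Prelude.Def_Dual3
import Groth.Agent.Lib.Helper4.Equi10
import Groth.Agent.Lib.Helper2.Sch.FibreDimZero
import Groth.Agent.Lib.Helper2.Sch.QfAt
import Groth.Agent.Lib.Helper2.FibDim.QfCodimOne

/-!
# Fibres over maximal points: quasi-finiteness from transcendence degree zero (helper2)
-/

set_option autoImplicit false
set_option linter.style.haveILetI false
set_option linter.unusedSectionVars false
set_option backward.isDefEq.respectTransparency.types false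
universe u

namespace Groth.Agent.Helper2.FibDim

open CategoryTheory CategoryTheory.Limits AlgebraicGeometry TensorProduct TopologicalSpace Topology
open Groth.Agent.Lib.Helper4.FibDim1

/-- Let `u'` lie over a maximal point of `V`, and assume that all maximal points of `U` have
residue transcendence degree zero.  Then `h` is quasi-finite at `u'` and `u'` is a maximal point
of `U`. -/
theorem quasiFiniteAt_and_isMax_of_max_tr_zero {U V : Scheme.{u}} (h : U ⟶ V)
    [LocallyOfFiniteType h] (u' : U) (hv : ∀ s : V, s ⤳ h u' → s = h u')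
    (hgen : ∀ z : U, (∀ t : U, t ⤳ z → t = z) → Dual3.resTrdeg h z = 0) :
    h.QuasiFiniteAt u' ∧ ∀ t : U, t ⤳ u' → t = u' := by
  obtain ⟨z, hz, hzu', hzmax, htr⟩ :=
    Groth.Agent.Lib.Helper4.Equi10.exists_max_tr_eq_fibreDimAt h u'
  have hzU : ∀ t : U, t ⤳ z → t = z := by
    intro t ht
    have h1 : h t ⤳ h u' := by rw [← hz]; exact ht.map h.continuous
    have h2 : h t = h z := by rw [hz]; exact hv _ h1
    exact hzmax t h2 ht
  have htr0 : tr h z = 0 := by
    have h1 := hgen z hzU
    rw [resTrdeg_eq_tr] at h1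
    exact_mod_cast h1
  have hq' : h.QuasiFiniteAt u' := by
    rw [← Groth.Agent.Helper2.FibreDimZero.fibreDimAt_eq_zero_iff, ← htr, htr0]
    rfl
  have hqz : h.QuasiFiniteAt z := by
    rw [← Groth.Agent.Helper2.FibreDimZero.fibreDimAt_eq_zero_iff,
      Groth.Agent.Lib.Helper4.Equi10.fibreDimAt_eq_tr_of_max_nn h z hzmax, htr0]
    rfl
  have he : u' = z := Groth.Agent.Helper2.QfAt.eq_of_specializes_of_quasiFiniteAt hzu' hz.symm hqz
  refine ⟨hq', ?_⟩
  rw [he]
  exact hzU

/-- A point of positive residue transcendence degree has a proper specialization in its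
fibre. -/
theorem exists_specialization_of_tr_ne_zero {U V : Scheme.{u}} (h : U ⟶ V)
    [LocallyOfFiniteType h] (u : U) (hne : Dual3.resTrdeg h u ≠ 0) :
    ∃ w : U, h w = h u ∧ u ⤳ w ∧ w ≠ u := by
  have h1 := Groth.Agent.Lib.Helper4.Equi10.height_fib_nn h (h u) u rfl
  have hne' : tr h u ≠ 0 := by
    intro h0
    apply hne
    rw [resTrdeg_eq_tr, h0]
    rfl
  have h2 : Order.height (⟨u, rfl⟩ : {z' : U // h z' = h u}) ≠ 0 := by
    rw [h1]
    exact_mod_cast hne'
  have h3 : ¬ IsMin (⟨u, rfl⟩ : {z' : U // h z' = h u}) := by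
    rwa [Ne, Order.height_eq_zero] at h2
  rw [not_isMin_iff] at h3
  obtain ⟨w, hw⟩ := h3
  refine ⟨w.1, w.2, ?_, ?_⟩
  · exact hw.le
  · intro e
    have : w = ⟨u, rfl⟩ := Subtype.ext e
    rw [this] at hw
    exact lt_irrefl _ hw

end Groth.Agent.Helper2.FibDim
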