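import Mathlib
import Groth.Prelude.Def_Flat
import Groth.Prelude.Def_Dual3
import Groth.Agent.Lib.Helper4.Equi10
import Groth.Agent.Lib.Helper2.FibDim.QfCodimOne

/-!
# A point of the fibre whose codimension is at least the residue transcendence degree (helper2)
-/

set_option autoImplicit false
set_option linter.style.haveILetI false
set_option linter.unusedSectionVars false
set_option backward.isDefEq.respectTransparency.types false
universe u

namespace Groth.Agent.Helper2.FibDim

open CategoryTheory CategoryTheory.Limits AlgebraicGeometry TensorProduct TopologicalSpace Topology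
open Groth.Agent.Lib.Helper4.FibDim1

/-- In the fibre through `u` there is a specialization `w` of `u` whose coheight in `U` is at least
the residue transcendence degree of `u`. -/
theorem exists_fibre_point_coheight_ge {U V : Scheme.{u}} (h : U ⟶ V) [LocallyOfFiniteType h]
    (u : U) : ∃ w : U, h w = h u ∧ u ⤳ w ∧ ((tr h u : ℕ) : ℕ∞) ≤ Order.coheight w := by
  have h1 := Groth.Agent.Lib.Helper4.Equi10.height_fib_nn h (h u) u rfl
  obtain ⟨p, hp1, hp2⟩ := Order.exists_series_of_le_height
    (⟨u, rfl⟩ : {z' : U // h z' = h u}) (n := tr h u) (by rw [h1])
  have hmono : StrictMono (Subtype.val : {z' : U // h z' = h u} → U) := fun a b hab => hab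
  let q : LTSeries U := p.map Subtype.val hmono
  have hq : q.length = tr h u := by
    rw [← hp2]; rfl
  have hqh : q.head = p.head.1 := rfl
  refine ⟨p.head.1, p.head.2, ?_, ?_⟩
  · have h2 : p.head ≤ p.last := LTSeries.head_le_last p
    rw [hp1] at h2
    exact h2
  · have h3 := Order.length_le_coheight_head (p := q)
    rw [hq, hqh] at h3
    exact h3

end Groth.Agent.Helper2.FibDim
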