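import Mathlib
import Groth.Agent.Lib.Lead.CritFib14

/-!
# Going down along a polynomial subring through a point of a flat finitely presented algebra
(ring part of S9739) (helper2)
-/

set_option autoImplicit false
set_option linter.style.haveILetI false
set_option linter.unusedSectionVars false
set_option backward.isDefEq.respectTransparency.types false
universe u

namespace Groth.Agent.Helper2.FibDim

open TensorProduct

section GD
variable (A B C : Type u) [CommRing A] [CommRing B] [CommRing C] [Algebra A B]
    [Algebra B C] [Algebra A C] [IsScalarTower A B C]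
    [Algebra.FiniteType A B] [Algebra.FinitePresentation A C]

/-- critère de platitude par fibres when the fibre ring of the middle ring at the point is a
field -/
theorem flat_localization_of_under_eq_map (p : Ideal A) [p.IsPrime] (q : Ideal C) [q.IsPrime]
    [q.LiesOver p] (hP : q.under B = p.map (algebraMap A B))
    (h1 : Module.Flat A (Localization.AtPrime q)) :
    Module.Flat B (Localization.AtPrime q) := by
  obtain ⟨P, hPdef⟩ : ∃ P : Ideal B, P = q.under B := ⟨_, rfl⟩
  haveI : P.IsPrime := by rw [hPdef]; infer_instance
  haveI : q.LiesOver P := ⟨hPdef⟩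
  letI := Localization.AtPrime.algebraOfLiesOver P q
  have h𝔪 : IsLocalRing.maximalIdeal (Localization.AtPrime P) =
      (p.map (algebraMap A B)).map (algebraMap B (Localization.AtPrime P)) := by
    rw [← hP, ← hPdef]
    exact Localization.AtPrime.map_eq_maximalIdeal.symm
  have h2 : Module.Flat
      (Localization.AtPrime P ⧸ IsLocalRing.maximalIdeal (Localization.AtPrime P))
      (Localization.AtPrime q ⧸ (IsLocalRing.maximalIdeal (Localization.AtPrime P) • ⊤ :
        Submodule (Localization.AtPrime P) (Localization.AtPrime q))) := by
    letI : Field (Localization.AtPrime P ⧸ IsLocalRing.maximalIdeal (Localization.AtPrime P)) :=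
      Ideal.Quotient.field _
    infer_instance
  have h3 := Groth.Agent.Lead.CritFib.critere_stalk A B C C p P q (Localization.AtPrime q)
    (Algebra.linearMap C (Localization.AtPrime q)) (Localization.AtPrime P) _ h𝔪 h1 h2
  haveI : Module.Flat B (Localization.AtPrime P) := IsLocalization.flat _ P.primeCompl
  exact Module.Flat.trans B (Localization.AtPrime P) (Localization.AtPrime q)

/-- going down along `B → C` below a prime `q` at which `C` is `A`-flat and whose trace on `B`
is the extension of its trace on `A` -/
theorem exists_prime_le_under_eq (p : Ideal A) [p.IsPrime] (q : Ideal C) [q.IsPrime]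
    [q.LiesOver p] (hP : q.under B = p.map (algebraMap A B))
    (h1 : Module.Flat A (Localization.AtPrime q))
    (q' : Ideal C) [q'.IsPrime] (hle : q' ≤ q) (P'' : Ideal B) [P''.IsPrime]
    (hP'' : P'' ≤ q'.under B) :
    ∃ q'' : Ideal C, q''.IsPrime ∧ q'' ≤ q' ∧ q''.under B = P'' := by
  haveI hflat := flat_localization_of_under_eq_map A B C p q hP h1
  have hdis : Disjoint (q.primeCompl : Set C) (q' : Set C) := by
    rw [Set.disjoint_left]
    intro c hc hc'
    exact hc (hle hc')
  have hQ'prime := IsLocalization.isPrime_of_isPrime_disjoint q.primeCompl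
    (Localization.AtPrime q) q' inferInstance hdis
  have hQ'under : (q'.map (algebraMap C (Localization.AtPrime q))).under C = q' :=
    IsLocalization.under_map_of_isPrime_disjoint q.primeCompl (Localization.AtPrime q)
      inferInstance hdis
  obtain ⟨Q', hQ'def⟩ : ∃ Q' : Ideal (Localization.AtPrime q),
      Q' = q'.map (algebraMap C (Localization.AtPrime q)) := ⟨_, rfl⟩
  haveI : Q'.IsPrime := by rw [hQ'def]; exact hQ'prime
  haveI : (q'.under B).IsPrime := inferInstance
  haveI : Q'.LiesOver (q'.under B) := ⟨by
    rw [← Ideal.under_under (B := C) Q', hQ'def, hQ'under]⟩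
  obtain ⟨Q'', hQ''le, hQ''prime, hQ''lo⟩ :=
    Ideal.exists_ideal_le_liesOver_of_le (p := P'') (q := q'.under B) Q' hP''
  refine ⟨Q''.under C, Ideal.IsPrime.under C Q'', ?_, ?_⟩
  · calc Q''.under C ≤ Q'.under C := Ideal.comap_mono hQ''le
      _ = q' := by rw [hQ'def, hQ'under]
  · rw [Ideal.under_under]
    exact hQ''lo.over.symm

end GD

end Groth.Agent.Helper2.FibDim
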