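import Mathlib
import Groth.Agent.Lib.Helper2.FibDim.FlatGen

/-!
# Transcendence degree of residue extensions under generization, flat finitely presented case
(ring part of S9739, continued) (helper2)
-/

set_option autoImplicit false
set_option linter.style.haveILetI false
set_option linter.unusedSectionVars false
set_option backward.isDefEq.respectTransparency.types false
universe u

namespace Groth.Agent.Helper2.FibDim

open TensorProduct

section Poly
variable {A C : Type u} [CommRing A] [CommRing C] [Algebra A C] {ι : Type} (t : ι → C)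

theorem ker_map_mk (p : Ideal A) :
    RingHom.ker (MvPolynomial.map (σ := ι) (Ideal.Quotient.mk p)) =
      p.map (MvPolynomial.C : A →+* MvPolynomial ι A) := by
  ext x
  rw [RingHom.mem_ker, MvPolynomial.mem_map_C_iff, MvPolynomial.ext_iff]
  simp only [MvPolynomial.coeff_map, MvPolynomial.coeff_zero, Ideal.Quotient.eq_zero_iff_mem]

theorem isPrime_map_C (p : Ideal A) [p.IsPrime] :
    (p.map (MvPolynomial.C : A →+* MvPolynomial ι A)).IsPrime := by
  rw [← ker_map_mk]
  exact RingHom.ker_isPrime _

theorem mk_aeval (p : Ideal A) (q : Ideal C) [q.LiesOver p] (x : MvPolynomial ι A) :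
    Ideal.Quotient.mk q (MvPolynomial.aeval t x) =
      MvPolynomial.aeval (R := A ⧸ p) (fun i => Ideal.Quotient.mk q (t i))
        (MvPolynomial.map (Ideal.Quotient.mk p) x) := by
  induction x using MvPolynomial.induction_on with
  | C a =>
    rw [MvPolynomial.aeval_C, MvPolynomial.map_C, MvPolynomial.aeval_C]
    rfl
  | add x y hx hy => rw [map_add, map_add, hx, hy, map_add, map_add]
  | mul_X x i hx =>
    rw [map_mul, map_mul, hx, map_mul, map_mul, MvPolynomial.aeval_X, MvPolynomial.map_X,
      MvPolynomial.aeval_X]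

theorem algebraicIndependent_mk_iff (p : Ideal A) (q : Ideal C) [q.LiesOver p] :
    AlgebraicIndependent (A ⧸ p) (fun i => Ideal.Quotient.mk q (t i)) ↔
      q.comap (MvPolynomial.aeval t : MvPolynomial ι A →ₐ[A] C) =
        p.map (MvPolynomial.C : A →+* MvPolynomial ι A) := by
  rw [algebraicIndependent_iff]
  constructor
  · intro h
    ext x
    rw [Ideal.mem_comap, ← ker_map_mk, RingHom.mem_ker, ← Ideal.Quotient.eq_zero_iff_mem,
      mk_aeval t p q]
    constructor
    · intro hx
      exact h _ hx
    · intro hx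
      rw [hx, map_zero]
  · intro h F hF
    obtain ⟨x, rfl⟩ := MvPolynomial.map_surjective (Ideal.Quotient.mk p)
      Ideal.Quotient.mk_surjective F
    rw [← mk_aeval t p q, Ideal.Quotient.eq_zero_iff_mem] at hF
    have hx : x ∈ q.comap (MvPolynomial.aeval t : MvPolynomial ι A →ₐ[A] C) := hF
    rw [h, ← ker_map_mk] at hx
    exact hx

end Poly

section Main
variable {A C : Type u} [CommRing A] [CommRing C] [Algebra A C] [Algebra.FinitePresentation A C]

theorem exists_prime_le_algebraicIndependent (d : ℕ) (t : Fin d → C)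
    (p : Ideal A) [p.IsPrime] (q : Ideal C) [q.IsPrime] [q.LiesOver p]
    (h1 : Module.Flat A (Localization.AtPrime q))
    (ht : AlgebraicIndependent (A ⧸ p) (fun i => Ideal.Quotient.mk q (t i)))
    (p' : Ideal A) [p'.IsPrime] (q' : Ideal C) [q'.IsPrime] [q'.LiesOver p'] (hle : q' ≤ q) :
    ∃ (q'' : Ideal C) (_ : q''.IsPrime) (_ : q''.LiesOver p'), q'' ≤ q' ∧
      AlgebraicIndependent (A ⧸ p') (fun i => Ideal.Quotient.mk q'' (t i)) := by
  letI algBC : Algebra (MvPolynomial (Fin d) A) C :=
    (MvPolynomial.aeval t : MvPolynomial (Fin d) A →ₐ[A] C).toRingHom.toAlgebra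
  haveI : IsScalarTower A (MvPolynomial (Fin d) A) C := IsScalarTower.of_algebraMap_eq (fun a => by
    change _ = (MvPolynomial.aeval t : MvPolynomial (Fin d) A →ₐ[A] C) (algebraMap A _ a)
    rw [AlgHom.commutes])
  have hP : q.under (MvPolynomial (Fin d) A) = p.map (algebraMap A (MvPolynomial (Fin d) A)) :=
    (algebraicIndependent_mk_iff t p q).mp ht
  haveI hP''prime : (p'.map (algebraMap A (MvPolynomial (Fin d) A))).IsPrime := isPrime_map_C p'
  have hP'' : p'.map (algebraMap A (MvPolynomial (Fin d) A)) ≤ q'.under (MvPolynomial (Fin d) A) := by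
    rw [Ideal.map_le_iff_le_comap]
    change p' ≤ (q'.under (MvPolynomial (Fin d) A)).under A
    rw [Ideal.under_under, ← Ideal.LiesOver.over (p := p') (P := q')]
  obtain ⟨q'', hq''prime, hq''le, hq''under⟩ := exists_prime_le_under_eq A (MvPolynomial (Fin d) A) C
    p q hP h1 q' hle (p'.map (algebraMap A (MvPolynomial (Fin d) A))) hP''
  have hq''lo : q''.LiesOver p' := ⟨by
    rw [← Ideal.under_under (B := MvPolynomial (Fin d) A) q'', hq''under]
    have h2 : (p'.map (MvPolynomial.C : A →+* MvPolynomial (Fin d) A)).comap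
        (MvPolynomial.C : A →+* MvPolynomial (Fin d) A) = p' := by
      ext a
      rw [Ideal.mem_comap, MvPolynomial.mem_map_C_iff]
      constructor
      · intro h
        have := h 0
        rwa [MvPolynomial.coeff_C, if_pos rfl] at this
      · intro ha m
        rw [MvPolynomial.coeff_C]
        split_ifs
        · exact ha
        · exact zero_mem _
    exact h2.symm⟩
  refine ⟨q'', hq''prime, hq''lo, hq''le, ?_⟩
  exact (algebraicIndependent_mk_iff t p' q'').mpr hq''under

/-- transcendence degree form -/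
theorem exists_prime_le_trdeg_ge (d : ℕ)
    (p : Ideal A) [p.IsPrime] (q : Ideal C) [q.IsPrime] [q.LiesOver p]
    (h1 : Module.Flat A (Localization.AtPrime q))
    (hd : Algebra.trdeg (A ⧸ p) (C ⧸ q) = (d : Cardinal.{u}))
    (p' : Ideal A) [p'.IsPrime] (q' : Ideal C) [q'.IsPrime] [q'.LiesOver p'] (hle : q' ≤ q) :
    ∃ (q'' : Ideal C) (_ : q''.IsPrime) (_ : q''.LiesOver p'), q'' ≤ q' ∧
      (d : Cardinal.{u}) ≤ Algebra.trdeg (A ⧸ p') (C ⧸ q'') := by
  obtain ⟨s, hs⟩ := exists_isTranscendenceBasis (A ⧸ p) (C ⧸ q)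
  have hcard : Cardinal.mk s = (d : Cardinal.{u}) := by
    rw [← hd]
    exact hs.cardinalMk_eq_trdeg
  obtain ⟨e⟩ := Cardinal.mk_eq_nat_iff.mp hcard
  have hind : AlgebraicIndependent (A ⧸ p) (fun i : Fin d => ((e.symm i : s) : C ⧸ q)) :=
    hs.1.comp e.symm e.symm.injective
  choose t ht using fun i : Fin d => Ideal.Quotient.mk_surjective ((e.symm i : s) : C ⧸ q)
  have hind' : AlgebraicIndependent (A ⧸ p) (fun i => Ideal.Quotient.mk q (t i)) := by
    have : (fun i => Ideal.Quotient.mk q (t i)) = fun i : Fin d => ((e.symm i : s) : C ⧸ q) :=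
      funext ht
    rw [this]
    exact hind
  obtain ⟨q'', hq''prime, hq''lo, hq''le, hq''ind⟩ :=
    exists_prime_le_algebraicIndependent d t p q h1 hind' p' q' hle
  refine ⟨q'', hq''prime, hq''lo, hq''le, ?_⟩
  haveI : Nontrivial (A ⧸ p') := Ideal.Quotient.nontrivial_iff.mpr (Ideal.IsPrime.ne_top inferInstance)
  have := hq''ind.lift_cardinalMk_le_trdeg
  simpa using this

end Main

end Groth.Agent.Helper2.FibDim
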