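import Mathlib
import Groth.Prelude.Def_Flat
import Groth.Agent.Lib.Helper4.FibDimComp1
import Groth.Agent.Lib.Helper2.FibDim.FlatGen2

/-!
# Fibre dimension at generizations of points maximal in their fibre, flat finitely presented case
(S9739) (helper2)
-/

set_option autoImplicit false
set_option linter.style.haveILetI false
set_option linter.unusedSectionVars false
set_option backward.isDefEq.respectTransparency.types false
universe u

namespace Groth.Agent.Helper2.FibDim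

open CategoryTheory CategoryTheory.Limits AlgebraicGeometry TensorProduct TopologicalSpace Topology
open Groth.Agent.Lib.Helper4.FibDim1 Groth.Agent.Lib.Helper4.DimIneq2
open Groth.Agent.Lib.Helper4.RadBir3 Groth.Agent.Lib.Helper4.NormFibre2

/-- for a flat morphism locally of finite presentation, every generization `x'` of `x` has a
generization in its fibre whose residual transcendence degree is at least that of `x` -/
theorem exists_generization_tr_ge_of_flat_fp {X S : Scheme.{u}} (f : X ⟶ S) [Flat f]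
    [LocallyOfFinitePresentation f] (x x' : X) (hsp : x' ⤳ x) :
    ∃ ξ : X, ξ ⤳ x' ∧ f ξ = f x' ∧ tr f x ≤ tr f ξ := by
  obtain ⟨V, hV, hsV, -⟩ := exists_isAffineOpen_mem_and_subset (U := (⊤ : S.Opens)) (x := f x)
    trivial
  obtain ⟨U, hU, hxU, hUV⟩ := exists_isAffineOpen_mem_and_subset (U := f ⁻¹ᵁ V) (x := x) hsV
  have hx'U : x' ∈ U := hsp.mem_open U.2 hxU
  letI alg : Algebra Γ(S, V) Γ(X, U) := (f.appLE V U hUV).hom.toAlgebra
  haveI : Algebra.FinitePresentation Γ(S, V) Γ(X, U) :=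
    LocallyOfFinitePresentation.finitePresentation_appLE f hV hU hUV
  haveI : Module.Flat Γ(S, V) Γ(X, U) := Flat.flat_appLE f hV hU hUV
  haveI hlo := liesOver_chart f hV hU hUV x hxU rfl
  haveI hlo' := liesOver_chart f hV hU hUV x' hx'U rfl
  have hle : (hU.primeIdealOf ⟨x', hx'U⟩).asIdeal ≤ (hU.primeIdealOf ⟨x, hxU⟩).asIdeal :=
    (specializes_iff_primeIdealOf_le hU ⟨x', hx'U⟩ ⟨x, hxU⟩).mp hsp
  have h1 : Module.Flat Γ(S, V) (Localization.AtPrime (hU.primeIdealOf ⟨x, hxU⟩).asIdeal) := by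
    haveI : Module.Flat Γ(X, U) (Localization.AtPrime (hU.primeIdealOf ⟨x, hxU⟩).asIdeal) :=
      IsLocalization.flat _ (hU.primeIdealOf ⟨x, hxU⟩).asIdeal.primeCompl
    exact Module.Flat.trans Γ(S, V) Γ(X, U) _
  obtain ⟨q'', hq''prime, hq''lo, hq''le, hq''tr⟩ := exists_prime_le_trdeg_ge (tr f x)
    (hV.primeIdealOf ⟨f x, hUV hxU⟩).asIdeal (hU.primeIdealOf ⟨x, hxU⟩).asIdeal h1
    (tr_chart f hV hU hUV x hxU rfl)
    (hV.primeIdealOf ⟨f x', hUV hx'U⟩).asIdeal (hU.primeIdealOf ⟨x', hx'U⟩).asIdeal hle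
  have hξU : hU.fromSpec ⟨q'', hq''prime⟩ ∈ U := fromSpec_mem hU _
  have hξq : hU.primeIdealOf ⟨hU.fromSpec ⟨q'', hq''prime⟩, hξU⟩ = ⟨q'', hq''prime⟩ :=
    primeIdealOf_fromSpec hU _
  have hfξ : f (hU.fromSpec ⟨q'', hq''prime⟩) = f x' := by
    have h1 := liesOver_chart f hV hU hUV _ hξU rfl
    have h2 : hV.primeIdealOf ⟨f (hU.fromSpec ⟨q'', hq''prime⟩), hUV hξU⟩ =
        hV.primeIdealOf ⟨f x', hUV hx'U⟩ := by
      apply PrimeSpectrum.ext
      rw [h1.over, hξq]
      exact hq''lo.over.symm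
    exact congrArg Subtype.val (primeIdealOf_injective' hV h2)
  refine ⟨hU.fromSpec ⟨q'', hq''prime⟩, ?_, hfξ, ?_⟩
  · rw [specializes_iff_primeIdealOf_le hU ⟨_, hξU⟩ ⟨x', hx'U⟩, hξq]
    exact hq''le
  · haveI hloξ := liesOver_chart f hV hU hUV _ hξU rfl
    have h3 := tr_chart f hV hU hUV _ hξU rfl
    have h4 : Algebra.trdeg (Γ(S, V) ⧸ (hV.primeIdealOf ⟨f (hU.fromSpec ⟨q'', hq''prime⟩),
          hUV hξU⟩).asIdeal)
        (Γ(X, U) ⧸ (hU.primeIdealOf ⟨hU.fromSpec ⟨q'', hq''prime⟩, hξU⟩).asIdeal) =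
        Algebra.trdeg (Γ(S, V) ⧸ (hV.primeIdealOf ⟨f x', hUV hx'U⟩).asIdeal) (Γ(X, U) ⧸ q'') := by
      refine trdeg_quot_congr _ _ _ _ ?_ ?_
      · congr 2
        exact Subtype.ext hfξ
      · rw [hξq]
    rw [h4] at h3
    rw [h3] at hq''tr
    exact_mod_cast hq''tr

/-- for a flat morphism locally of finite presentation, the residual transcendence degree at a
point bounds below the local fibre dimension at each of its generizations -/
theorem tr_le_fibreDimAt_of_specializes_of_flat_fp {X S : Scheme.{u}} (f : X ⟶ S) [Flat f]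
    [LocallyOfFinitePresentation f] (x x' : X) (hsp : x' ⤳ x) :
    ((tr f x : ℕ) : WithBot ℕ∞) ≤ FlatMor.fibreDimAt f x' := by
  obtain ⟨ξ, hξsp, -, hξtr⟩ := exists_generization_tr_ge_of_flat_fp f x x' hsp
  refine le_trans ?_ (Groth.Agent.Lib.Helper4.Equi10.tr_le_fibreDimAt_of_specializes_nn f x' ξ hξsp)
  exact_mod_cast hξtr

theorem S9739_main {X S : Scheme.{u}} (f : X ⟶ S) [Flat f] [LocallyOfFinitePresentation f]
    (x x' : X) (hsp : x' ⤳ x)
    (hgen : ∃ Z ∈ irreducibleComponents ↥(f.fiber (f x)), IsGenericPoint (f.asFiber x) Z) :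
    FlatMor.fibreDimAt f x' = FlatMor.fibreDimAt f x := by
  apply le_antisymm
    (Groth.Agent.Lib.Helper4.FibDimComp1.fibreDimAt_mono_of_specializes f x' x hsp)
  obtain ⟨Z, hZ, hZgen⟩ := hgen
  have hmax : ∀ z' : X, f z' = f x → z' ⤳ x → z' = x := by
    have h1 := Groth.Agent.Lib.Helper4.LocNoethFib1.fibreMax_of_fiber_max f (f x) (f.asFiber x)
      (fun w' hw' => Groth.Agent.Lib.Helper4.GenFib1.isMax_genericPoint_of_mem_irreducibleComponents
        Z hZ (f.asFiber x) hZgen w' hw')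
    rw [f.fiberι_asFiber x] at h1
    exact h1
  rw [Groth.Agent.Lib.Helper4.LocNoethFib1.fibreDimAt_eq_tr_of_max f x hmax]
  exact tr_le_fibreDimAt_of_specializes_of_flat_fp f x x' hsp

end Groth.Agent.Helper2.FibDim
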