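import Mathlib
import Groth.Prelude.Def_Flat
import Groth.Agent.Lib.Helper4.FibDimBC2

/-!
# The locus where the local fibre dimension is at most `n`, for ring maps (helper2)
-/

set_option autoImplicit false
set_option linter.style.haveILetI false
set_option linter.unusedSectionVars false
set_option backward.isDefEq.respectTransparency.types false
universe u

namespace Groth.Agent.Helper2.FibDim

open CategoryTheory CategoryTheory.Limits AlgebraicGeometry TensorProduct TopologicalSpace

theorem locallyOfFiniteType_Spec (R S : Type u) [CommRing R] [CommRing S] [Algebra R S]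
    [Algebra.FiniteType R S] :
    LocallyOfFiniteType (Spec.map (CommRingCat.ofHom (algebraMap R S))) := by
  rw [HasRingHomProperty.Spec_iff (P := @LocallyOfFiniteType)]
  rw [CommRingCat.hom_ofHom, RingHom.finiteType_algebraMap]
  infer_instance

/-- the local dimension of the fibre ring at a prime over `q` is the local fibre dimension at `q`
of the morphism of spectra -/
theorem localDim_fiber_eq_fibreDimAt (R S : Type u) [CommRing R] [CommRing S] [Algebra R S]
    [Algebra.FiniteType R S] (q : PrimeSpectrum S)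
    (Q : PrimeSpectrum ((q.asIdeal.under R).Fiber S))
    (hQ : Q.asIdeal.comap (Algebra.TensorProduct.includeRight.toRingHom) = q.asIdeal) :
    FlatMor.localDim (PrimeSpectrum ((q.asIdeal.under R).Fiber S)) Q =
      FlatMor.fibreDimAt (Spec.map (CommRingCat.ofHom (algebraMap R S))) q := by
  haveI := locallyOfFiniteType_Spec R S
  obtain ⟨f, hf⟩ : ∃ f : Spec (CommRingCat.of S) ⟶ Spec (CommRingCat.of R),
      f = Spec.map (CommRingCat.ofHom (algebraMap R S)) := ⟨_, rfl⟩
  rw [← hf] at this ⊢
  rw [Groth.Agent.Lib.Helper4.Chev9.fibreDimAt_eq_localDim_preimage f q (f q) rfl]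
  let p : PrimeSpectrum R := ⟨q.asIdeal.under R, inferInstance⟩
  have hfp : ∀ z : PrimeSpectrum S, f z = PrimeSpectrum.comap (algebraMap R S) z := by
    intro z
    rw [hf]
    rfl
  have hset : PrimeSpectrum.comap (algebraMap R S) ⁻¹' {p} = f.base ⁻¹' {f q} := by
    ext z
    have hz : f z = PrimeSpectrum.comap (algebraMap R S) z := hfp z
    have hq : f q = p := hfp q
    constructor
    · intro h
      exact (hz.trans h).trans hq.symm
    · intro h
      exact hz.symm.trans (h.trans hq)
  let Ψ := (PrimeSpectrum.preimageHomeomorphFiber R S p).symm.trans (Homeomorph.setCongr hset)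
  rw [Groth.Agent.Lib.Helper4.Chev2.localDim_homeomorph Ψ Q]
  congr 1
  apply Subtype.ext
  exact PrimeSpectrum.ext hQ

/-- the set in the statement of S9176 is the locus where `fibreDimAt ≤ n` -/
theorem setOf_localDim_fiber_le_eq (R S : Type u) [CommRing R] [CommRing S] [Algebra R S]
    [Algebra.FiniteType R S] (n : ℕ) :
    {q : PrimeSpectrum S | ∀ Q : PrimeSpectrum ((q.asIdeal.under R).Fiber S),
        Q.asIdeal.comap (Algebra.TensorProduct.includeRight.toRingHom) = q.asIdeal →
          FlatMor.localDim (PrimeSpectrum ((q.asIdeal.under R).Fiber S)) Q ≤ (n : WithBot ℕ∞)} =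
      {q : ↥(Spec (CommRingCat.of S)) |
        FlatMor.fibreDimAt (Spec.map (CommRingCat.ofHom (algebraMap R S))) q ≤ (n : WithBot ℕ∞)} := by
  ext q
  change (∀ Q : PrimeSpectrum ((q.asIdeal.under R).Fiber S),
        Q.asIdeal.comap (Algebra.TensorProduct.includeRight.toRingHom) = q.asIdeal →
          FlatMor.localDim (PrimeSpectrum ((q.asIdeal.under R).Fiber S)) Q ≤ (n : WithBot ℕ∞)) ↔
    FlatMor.fibreDimAt (Spec.map (CommRingCat.ofHom (algebraMap R S))) q ≤ (n : WithBot ℕ∞)
  constructor
  · intro h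
    let p : PrimeSpectrum R := ⟨q.asIdeal.under R, inferInstance⟩
    let q' : ↥(PrimeSpectrum.comap (algebraMap R S) ⁻¹' {p}) := ⟨q, rfl⟩
    let Q : PrimeSpectrum ((q.asIdeal.under R).Fiber S) :=
      PrimeSpectrum.preimageHomeomorphFiber R S p q'
    have hQ : Q.asIdeal.comap (Algebra.TensorProduct.includeRight.toRingHom) = q.asIdeal := by
      have h1 : (PrimeSpectrum.preimageHomeomorphFiber R S p).symm Q = q' :=
        (PrimeSpectrum.preimageHomeomorphFiber R S p).symm_apply_apply q'
      exact congrArg (fun z => z.1.asIdeal) h1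
    rw [← localDim_fiber_eq_fibreDimAt R S q Q hQ]
    exact h Q hQ
  · intro h Q hQ
    rw [localDim_fiber_eq_fibreDimAt R S q Q hQ]
    exact h

/-- a Noetherian model of a finitely presented algebra, as a pullback square of spectra -/
theorem exists_isPullback_model (R S : Type u) [CommRing R] [CommRing S] [Algebra R S]
    [Algebra.FinitePresentation R S] :
    ∃ (R₀ S₀ : Type u) (_ : CommRing R₀) (_ : CommRing S₀) (_ : Algebra R₀ R)
      (_ : Algebra R₀ S₀), IsNoetherianRing R₀ ∧ Algebra.FiniteType R₀ S₀ ∧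
      ∃ φ : S₀ →+* S,
        IsPullback (Spec.map (CommRingCat.ofHom φ))
          (Spec.map (CommRingCat.ofHom (algebraMap R S)))
          (Spec.map (CommRingCat.ofHom (algebraMap R₀ S₀)))
          (Spec.map (CommRingCat.ofHom (algebraMap R₀ R))) := by
  obtain ⟨n, m, ⟨P⟩⟩ := Algebra.Presentation.exists_presentation_fin R S
  refine ⟨P.Core, P.ModelOfHasCoeffs P.Core, inferInstance, inferInstance, inferInstance,
    inferInstance, ?_, ?_, ?_⟩
  · exact Algebra.FiniteType.isNoetherianRing ℤ P.Core
  · infer_instance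
  · obtain ⟨e, -⟩ : ∃ e : R ⊗[P.Core] P.ModelOfHasCoeffs P.Core ≃ₐ[R] S, True :=
      ⟨P.tensorModelOfHasCoeffsEquiv P.Core, trivial⟩
    have hpo := CommRingCat.isPushout_tensorProduct P.Core R (P.ModelOfHasCoeffs P.Core)
    have hpo' : IsPushout (CommRingCat.ofHom (algebraMap P.Core R))
        (CommRingCat.ofHom (algebraMap P.Core (P.ModelOfHasCoeffs P.Core)))
        (CommRingCat.ofHom (algebraMap R S))
        (CommRingCat.ofHom (e.toRingEquiv.toRingHom.comp
          (Algebra.TensorProduct.includeRight (R := P.Core) (A := R)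
            (B := P.ModelOfHasCoeffs P.Core)).toRingHom)) := by
      refine hpo.of_iso (Iso.refl _) (Iso.refl _) (Iso.refl _) e.toRingEquiv.toCommRingCatIso
        (by simp) (by simp) ?_ ?_
      · ext x
        simp only [Iso.refl_hom, Category.id_comp, CommRingCat.hom_comp, CommRingCat.hom_ofHom,
          RingHom.comp_apply, RingEquiv.toCommRingCatIso_hom]
        exact e.commutes x
      · rw [Iso.refl_hom, Category.id_comp]
        rfl
    exact ⟨_, (isPullback_SpecMap_of_isPushout _ _ _ _ hpo').flip⟩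

/-- the locus where the local fibre dimension is at most `n` is quasi-compact, for a finitely
presented morphism of affine schemes -/
theorem isCompact_setOf_fibreDimAt_le (R S : Type u) [CommRing R] [CommRing S] [Algebra R S]
    [Algebra.FinitePresentation R S] (n : ℕ) :
    IsCompact {q : ↥(Spec (CommRingCat.of S)) |
      FlatMor.fibreDimAt (Spec.map (CommRingCat.ofHom (algebraMap R S))) q ≤ (n : WithBot ℕ∞)} := by
  obtain ⟨R₀, S₀, _, _, _, _, hN, hft, φ, hpb⟩ := exists_isPullback_model R S
  haveI := hN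
  haveI := hft
  haveI := locallyOfFiniteType_Spec R₀ S₀
  haveI : IsNoetherianRing S₀ := Algebra.FiniteType.isNoetherianRing R₀ S₀
  have hset : {q : ↥(Spec (CommRingCat.of S)) |
      FlatMor.fibreDimAt (Spec.map (CommRingCat.ofHom (algebraMap R S))) q ≤ (n : WithBot ℕ∞)} =
      (Spec.map (CommRingCat.ofHom φ)).base ⁻¹' {q₀ : ↥(Spec (CommRingCat.of S₀)) |
        FlatMor.fibreDimAt (Spec.map (CommRingCat.ofHom (algebraMap R₀ S₀))) q₀ ≤
          (n : WithBot ℕ∞)} := by
    ext q
    change FlatMor.fibreDimAt (Spec.map (CommRingCat.ofHom (algebraMap R S))) q ≤ (n : WithBot ℕ∞) ↔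
      FlatMor.fibreDimAt (Spec.map (CommRingCat.ofHom (algebraMap R₀ S₀)))
        ((Spec.map (CommRingCat.ofHom φ)) q) ≤ (n : WithBot ℕ∞)
    rw [Groth.Agent.Lib.Helper4.FibDimBC2.fibreDimAt_abs _ _ _ _ hpb q]
  rw [hset]
  have hopen : IsOpen {q₀ : ↥(Spec (CommRingCat.of S₀)) |
      FlatMor.fibreDimAt (Spec.map (CommRingCat.ofHom (algebraMap R₀ S₀))) q₀ ≤
        (n : WithBot ℕ∞)} :=
    Groth.Agent.Lib.Helper4.Chev2.S0402_main _ n
  haveI : NoetherianSpace ↥(Spec (CommRingCat.of S₀)) :=
    inferInstanceAs (NoetherianSpace (PrimeSpectrum S₀))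
  have hcomp : IsCompact {q₀ : ↥(Spec (CommRingCat.of S₀)) |
      FlatMor.fibreDimAt (Spec.map (CommRingCat.ofHom (algebraMap R₀ S₀))) q₀ ≤
        (n : WithBot ℕ∞)} :=
    TopologicalSpace.NoetherianSpace.isCompact _
  exact (Spec.map (CommRingCat.ofHom φ)).isSpectralMap.isCompact_preimage_of_isOpen hopen hcomp

/-- **S9176** -/
theorem S9176_main (R S : Type u) [CommRing R]
    [CommRing S] [Algebra R S] [Algebra.FinitePresentation R S] (n : ℕ) :
    IsOpen {q : PrimeSpectrum S | ∀ Q : PrimeSpectrum ((q.asIdeal.under R).Fiber S),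
        Q.asIdeal.comap (Algebra.TensorProduct.includeRight.toRingHom) = q.asIdeal →
          FlatMor.localDim (PrimeSpectrum ((q.asIdeal.under R).Fiber S)) Q ≤ (n : WithBot ℕ∞)} ∧
      IsCompact {q : PrimeSpectrum S | ∀ Q : PrimeSpectrum ((q.asIdeal.under R).Fiber S),
        Q.asIdeal.comap (Algebra.TensorProduct.includeRight.toRingHom) = q.asIdeal →
          FlatMor.localDim (PrimeSpectrum ((q.asIdeal.under R).Fiber S)) Q ≤ (n : WithBot ℕ∞)} := by
  haveI : Algebra.FiniteType R S := inferInstance
  rw [setOf_localDim_fiber_le_eq R S n]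
  haveI := locallyOfFiniteType_Spec R S
  exact ⟨Groth.Agent.Lib.Helper4.Chev2.S0402_main _ n, isCompact_setOf_fibreDimAt_le R S n⟩

end Groth.Agent.Helper2.FibDim
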