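import Mathlib
import Groth.Prelude.Def_Flat
import Groth.Agent.Lib.Helper4.FibDimBC2
import Groth.Agent.Lib.Helper2.FibDim.SpecLocus

/-!
# The locus where the local fibre dimension is at most `n` is retrocompact (helper2)
-/

set_option autoImplicit false
set_option linter.style.haveILetI false
set_option linter.unusedSectionVars false
set_option backward.isDefEq.respectTransparency.types false
universe u

namespace Groth.Agent.Helper2.FibDim

open CategoryTheory CategoryTheory.Limits AlgebraicGeometry TensorProduct TopologicalSpace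

/-- transport of a statement about the fibre ring along an equality of primes -/
theorem forall_fiber_congr {R A : Type u} [CommRing R] [CommRing A] [Algebra R A]
    (P P' : PrimeSpectrum R) (h : P = P') (I : Ideal A) (d : WithBot ℕ∞)
    (H : ∀ Q : PrimeSpectrum (P.asIdeal.Fiber A),
      Q.asIdeal.comap Algebra.TensorProduct.includeRight.toRingHom = I →
        d = FlatMor.localDim (PrimeSpectrum (P.asIdeal.Fiber A)) Q) :
    ∀ Q : PrimeSpectrum (P'.asIdeal.Fiber A),
      Q.asIdeal.comap Algebra.TensorProduct.includeRight.toRingHom = I →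
        d = FlatMor.localDim (PrimeSpectrum (P'.asIdeal.Fiber A)) Q := by
  subst h
  exact H

/-- there is a prime of the fibre ring over a given prime -/
theorem exists_fiber_prime (R A : Type u) [CommRing R] [CommRing A] [Algebra R A]
    (q : PrimeSpectrum A) :
    ∃ Q : PrimeSpectrum ((q.asIdeal.under R).Fiber A),
      Q.asIdeal.comap Algebra.TensorProduct.includeRight.toRingHom = q.asIdeal := by
  let p : PrimeSpectrum R := ⟨q.asIdeal.under R, inferInstance⟩
  let q' : ↥(PrimeSpectrum.comap (algebraMap R A) ⁻¹' {p}) := ⟨q, rfl⟩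
  refine ⟨PrimeSpectrum.preimageHomeomorphFiber R A p q', ?_⟩
  have h1 : (PrimeSpectrum.preimageHomeomorphFiber R A p).symm
      (PrimeSpectrum.preimageHomeomorphFiber R A p q') = q' :=
    (PrimeSpectrum.preimageHomeomorphFiber R A p).symm_apply_apply q'
  exact congrArg (fun z => z.1.asIdeal) h1

/-- the chart formula for the local fibre dimension, in the form of the ring statement -/
theorem chart_iff {X S : Scheme.{u}} (f : X ⟶ S) (x : X)
    {W : X.Opens} (hW : IsAffineOpen W) {V : S.Opens} (hV : IsAffineOpen V) (e : W ≤ f ⁻¹ᵁ V)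
    (hx : x ∈ W) (n : ℕ) :
    letI := (f.appLE V W e).hom.toAlgebra
    (∀ Q : PrimeSpectrum (((hW.primeIdealOf ⟨x, hx⟩).asIdeal.under Γ(S, V)).Fiber Γ(X, W)),
        Q.asIdeal.comap (Algebra.TensorProduct.includeRight.toRingHom) =
          (hW.primeIdealOf ⟨x, hx⟩).asIdeal →
          FlatMor.localDim (PrimeSpectrum
            (((hW.primeIdealOf ⟨x, hx⟩).asIdeal.under Γ(S, V)).Fiber Γ(X, W))) Q ≤
            (n : WithBot ℕ∞)) ↔
      FlatMor.fibreDimAt f x ≤ (n : WithBot ℕ∞) := by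
  letI alg := (f.appLE V W e).hom.toAlgebra
  have h0 := Groth.Agent.Lib.Helper4.Chev2.fibreDimAt_eq_localDim_fiberRing f x hW hV e hx
  have hP : hV.primeIdealOf ⟨f x, e hx⟩ =
      (⟨(hW.primeIdealOf ⟨x, hx⟩).asIdeal.under Γ(S, V), inferInstance⟩ :
        PrimeSpectrum Γ(S, V)) :=
    (IsAffineOpen.comap_primeIdealOf_appLE V hV W hW e hx).symm
  have h1 := forall_fiber_congr _ _ hP (hW.primeIdealOf ⟨x, hx⟩).asIdeal
    (FlatMor.fibreDimAt f x) h0
  constructor
  · intro h
    obtain ⟨Q, hQ⟩ := exists_fiber_prime Γ(S, V) Γ(X, W) (hW.primeIdealOf ⟨x, hx⟩)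
    rw [h1 Q hQ]
    exact h Q hQ
  · intro h Q hQ
    rw [← h1 Q hQ]
    exact h

/-- on an affine chart, the locus is quasi-compact -/
theorem isCompact_inter_chart {X S : Scheme.{u}} (f : X ⟶ S) [LocallyOfFinitePresentation f]
    {W : X.Opens} (hW : IsAffineOpen W) {V : S.Opens} (hV : IsAffineOpen V) (e : W ≤ f ⁻¹ᵁ V)
    (n : ℕ) :
    IsCompact ({x : X | FlatMor.fibreDimAt f x ≤ (n : WithBot ℕ∞)} ∩ (W : Set X)) := by
  letI alg := (f.appLE V W e).hom.toAlgebra
  haveI hfp : Algebra.FinitePresentation Γ(S, V) Γ(X, W) :=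
    HasRingHomProperty.appLE (P := @LocallyOfFinitePresentation) f inferInstance ⟨V, hV⟩
      ⟨W, hW⟩ e
  obtain ⟨-, hc⟩ := S9176_main Γ(S, V) Γ(X, W) n
  have himg := hc.image hW.fromSpec.continuous
  convert himg using 1
  ext x
  constructor
  · rintro ⟨hxs, hxW⟩
    refine ⟨hW.primeIdealOf ⟨x, hxW⟩, ?_, hW.fromSpec_primeIdealOf ⟨x, hxW⟩⟩
    exact (chart_iff f x hW hV e hxW n).mpr hxs
  · rintro ⟨q, hq, rfl⟩
    have hxW : hW.fromSpec q ∈ W := by
      have : hW.fromSpec q ∈ Set.range hW.fromSpec := ⟨q, rfl⟩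
      rw [hW.range_fromSpec] at this
      exact this
    have hq' : hW.primeIdealOf ⟨hW.fromSpec q, hxW⟩ = q :=
      hW.fromSpec.isOpenEmbedding.injective (hW.fromSpec_primeIdealOf ⟨hW.fromSpec q, hxW⟩)
    refine ⟨?_, hxW⟩
    apply (chart_iff f (hW.fromSpec q) hW hV e hxW n).mp
    rw [hq']
    exact hq

/-- **S9355** -/
theorem S9355_main {X S : Scheme.{u}} (f : X ⟶ S) [LocallyOfFinitePresentation f] (n : ℕ) :
    IsRetrocompact {x : ↑X | FlatMor.fibreDimAt f x ≤ n} := by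
  intro U hUc hUo
  -- charts
  have hchart : ∀ x : U, ∃ W : X.Opens, x.1 ∈ W ∧ (W : Set X) ⊆ U ∧
      IsCompact ({x : X | FlatMor.fibreDimAt f x ≤ (n : WithBot ℕ∞)} ∩ (W : Set X)) := by
    intro x
    obtain ⟨V, hV, hxV, -⟩ := exists_isAffineOpen_mem_and_subset (U := (⊤ : S.Opens))
      (x := f x.1) trivial
    have hxUV : x.1 ∈ (⟨U, hUo⟩ : X.Opens) ⊓ f ⁻¹ᵁ V := ⟨x.2, hxV⟩
    obtain ⟨W, hW, hxW, hWsub⟩ := exists_isAffineOpen_mem_and_subset hxUV
    have e : W ≤ f ⁻¹ᵁ V := fun z hz => (hWsub hz).2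
    exact ⟨W, hxW, fun z hz => (hWsub hz).1, isCompact_inter_chart f hW hV e n⟩
  choose W hxW hWU hWc using hchart
  obtain ⟨t, ht⟩ := hUc.elim_finite_subcover (fun x : U => ((W x : X.Opens) : Set X))
    (fun x => (W x).2) (fun z hz => Set.mem_iUnion.mpr ⟨⟨z, hz⟩, hxW ⟨z, hz⟩⟩)
  have hEq : {x : ↑X | FlatMor.fibreDimAt f x ≤ n} ∩ U =
      ⋃ x ∈ t, ({x : X | FlatMor.fibreDimAt f x ≤ (n : WithBot ℕ∞)} ∩ (W x : Set X)) := by
    ext z
    simp only [Set.mem_inter_iff, Set.mem_iUnion, exists_prop]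
    constructor
    · rintro ⟨hzs, hzU⟩
      obtain ⟨x, hxt, hzx⟩ := Set.mem_iUnion₂.mp (ht hzU)
      exact ⟨x, hxt, hzs, hzx⟩
    · rintro ⟨x, -, hzs, hzx⟩
      exact ⟨hzs, hWU x hzx⟩
  rw [hEq]
  exact t.finite_toSet.isCompact_biUnion (fun x _ => hWc x)

end Groth.Agent.Helper2.FibDim
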