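import Mathlib
import Groth.Prelude.Def_Flat
import Groth.Agent.Lib.Helper4.FibDimComp1
import Groth.Agent.Lib.Helper2.FibDim.Retro

/-!
# Fibre dimension bounded over a dense open (helper2)
-/

set_option autoImplicit false
set_option linter.style.haveILetI false
set_option linter.unusedSectionVars false
set_option backward.isDefEq.respectTransparency.types false
universe u

namespace Groth.Agent.Helper2.FibDim

open CategoryTheory CategoryTheory.Limits AlgebraicGeometry TensorProduct TopologicalSpace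
open Groth.Agent.Lib.Helper4.FibDim1 Groth.Agent.Lib.Helper4.BaseChg1
  Groth.Agent.Lib.Helper4.UnivOpen1 Groth.Agent.Lib.Helper4.Val1
  Groth.Agent.Lib.Helper4.FibDimComp1

/-- a dense quasi-compact open subset of a prime spectrum contains a generization of every point -/
theorem exists_le_mem_of_dense (A : Type u) [CommRing A] (W : Set (PrimeSpectrum A))
    (hWo : IsOpen W) (hWc : IsCompact W) (hWd : Dense W) (p : PrimeSpectrum A) :
    ∃ q ∈ W, q ≤ p := by
  classical
  obtain ⟨t, rfl⟩ := PrimeSpectrum.isCompact_isOpen_iff.mp ⟨hWc, hWo⟩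
  by_contra hcon
  have key : ∀ f ∈ t, ∃ g : A, g ∉ p.asIdeal ∧ ∃ N : ℕ, g * f ^ N = 0 := by
    intro f hf
    by_contra hno
    let M : Submonoid A := p.asIdeal.primeCompl ⊔ Submonoid.powers f
    have h0 : Disjoint (((⊥ : Ideal A) : Ideal A) : Set A) (M : Set A) := by
      rw [Set.disjoint_left]
      intro a ha haM
      have ha0 : a = 0 := ha
      obtain ⟨g, hg, y, ⟨N, rfl⟩, hgy⟩ := Submonoid.mem_sup.mp haM
      exact hno ⟨g, hg, N, by rw [hgy, ha0]⟩
    obtain ⟨q, hq, -, hqM⟩ := Ideal.exists_le_prime_disjoint (⊥ : Ideal A) M h0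
    apply hcon
    refine ⟨⟨q, hq⟩, ?_, ?_⟩
    · intro hqt
      have hfq : f ∈ q := hqt hf
      exact Set.disjoint_left.mp hqM hfq
        (Submonoid.mem_sup_right (Submonoid.mem_powers f))
    · intro a ha
      by_contra hap
      exact Set.disjoint_left.mp hqM ha (Submonoid.mem_sup_left hap)
  choose! g hg N hN using key
  have hG : (∏ f ∈ t, g f) ∉ p.asIdeal := by
    intro h
    obtain ⟨f, hf, hgf⟩ := (Ideal.IsPrime.prod_mem_iff).mp h
    exact hg f hf hgf
  obtain ⟨q, hqG, hqW⟩ := hWd.inter_open_nonempty (PrimeSpectrum.basicOpen (∏ f ∈ t, g f))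
    (PrimeSpectrum.basicOpen (∏ f ∈ t, g f)).2 ⟨p, hG⟩
  have hqW' : ¬ (↑t ⊆ (q.asIdeal : Set A)) := hqW
  rw [Set.not_subset] at hqW'
  obtain ⟨f, hf, hfq⟩ := hqW'
  have h1 : g f * f ^ N f ∈ q.asIdeal := by
    rw [hN f hf]
    exact q.asIdeal.zero_mem
  rcases q.isPrime.mem_or_mem h1 with h2 | h2
  · apply hqG
    change (∏ f ∈ t, g f) ∈ q.asIdeal
    exact (Ideal.IsPrime.prod_mem_iff).mpr ⟨f, hf, h2⟩
  · exact hfq (q.isPrime.mem_of_pow_mem _ h2)

/-- a dense retrocompact open subset of a scheme contains a generization of every point -/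
theorem exists_specializes_mem_of_dense_retrocompact {S : Scheme.{u}} (U : S.Opens)
    (hU : Dense (U : Set S)) (hr : IsRetrocompact (U : Set S)) (s : S) :
    ∃ s' : S, s' ∈ U ∧ s' ⤳ s := by
  obtain ⟨V, hV, hsV, -⟩ := exists_isAffineOpen_mem_and_subset (U := (⊤ : S.Opens)) (x := s)
    trivial
  have hemb := hV.fromSpec.isOpenEmbedding
  let W : Set (PrimeSpectrum Γ(S, V)) := hV.fromSpec ⁻¹' (U : Set S)
  have hWo : IsOpen W := U.2.preimage hV.fromSpec.continuous
  have hWd : Dense W := hU.preimage hemb.isOpenMap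
  have hWc : IsCompact W := by
    have h1 : IsCompact ((U : Set S) ∩ (V : Set S)) := hr hV.isCompact V.2
    have h2 : W = hV.fromSpec ⁻¹' ((U : Set S) ∩ (V : Set S)) := by
      ext q
      constructor
      · intro hq
        refine ⟨hq, ?_⟩
        have : hV.fromSpec q ∈ Set.range hV.fromSpec := ⟨q, rfl⟩
        rw [hV.range_fromSpec] at this
        exact this
      · intro hq
        exact hq.1
    rw [h2]
    apply hemb.isInducing.isCompact_preimage' h1
    rw [hV.range_fromSpec]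
    exact Set.inter_subset_right
  obtain ⟨q, hqW, hq⟩ := exists_le_mem_of_dense Γ(S, V) W hWo hWc hWd (hV.primeIdealOf ⟨s, hsV⟩)
  refine ⟨hV.fromSpec q, hqW, ?_⟩
  have h3 := ((PrimeSpectrum.le_iff_specializes _ _).mp hq).map hV.fromSpec.continuous
  rwa [hV.fromSpec_primeIdealOf ⟨s, hsV⟩] at h3

section Flat
variable {X Y : Scheme.{u}} (f : X ⟶ Y) [LocallyOfFiniteType f] [Flat f]

/-- flat morphisms: generizations of the image lift to generizations whose residual transcendence
degree does not drop -/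
theorem exists_generization_tr_ge_of_flat (x : X) (y' : Y) (hy' : y' ⤳ f x) :
    ∃ ξ : X, ξ ⤳ x ∧ f ξ = y' ∧ tr f x ≤ tr f ξ := by
  obtain ⟨A, _, _, _, c, hcs, hcη⟩ := exists_valuationRing_of_specializes (f x) y' hy'
  obtain ⟨w, hw1, hw2, hw3⟩ := exists_tr_snd_ge f c x (IsLocalRing.closedPoint A) hcs.symm
  have hsp : (⊥ : PrimeSpectrum A) ⤳ (pullback.snd f c) w := by
    rw [hw2, ← PrimeSpectrum.le_iff_specializes]
    exact bot_le
  haveI : Flat (pullback.snd f c) := MorphismProperty.pullback_snd _ _ inferInstance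
  obtain ⟨ξ', hξ'sp, hξ'η⟩ := (Flat.generalizingMap (pullback.snd f c)) hsp
  have h1 : tr (pullback.snd f c) w ≤ tr (pullback.snd f c) ξ' :=
    tr_le_tr_of_dvd_total (pullback.snd f c) (isAffineOpen_top _) (dvd_total_Γ_Spec A) ξ' w hξ'sp
      trivial
  have h2 := tr_snd_le f c ξ'
  refine ⟨pullback.fst f c ξ', ?_, ?_, ?_⟩
  · rw [← hw1]
    exact hξ'sp.map (pullback.fst f c).continuous
  · rw [← Scheme.Hom.comp_apply, pullback.condition, Scheme.Hom.comp_apply, hξ'η, hcη]
  · omega

/-- flat morphisms: generizations of the image lift to generizations at which the local fibre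
dimension does not drop -/
theorem exists_generization_fibreDimAt_ge_of_flat (x : X) (y' : Y) (hy' : y' ⤳ f x) :
    ∃ ξ : X, ξ ⤳ x ∧ f ξ = y' ∧ FlatMor.fibreDimAt f x ≤ FlatMor.fibreDimAt f ξ := by
  obtain ⟨z₁, hz₁, hz₁sp, -, ha⟩ := exists_fibreMax_tr_eq f x
  obtain ⟨ξ, hξsp, hξf, hξtr⟩ := exists_generization_tr_ge_of_flat f z₁ y' (by rw [hz₁]; exact hy')
  refine ⟨ξ, hξsp.trans hz₁sp, hξf, ?_⟩
  rw [ha]
  refine le_trans ?_ (tr_le_fibreDimAt' f ξ)
  exact_mod_cast hξtr

end Flat

end Groth.Agent.Helper2.FibDim
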