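import Mathlib
import Groth.Prelude.Def_Flat
import Groth.Agent.Lib.Helper2.FibDim.DenseOpen

/-!
# Fibre dimension bounded over a dense open: main theorem (helper2)
-/

set_option autoImplicit false
set_option linter.style.haveILetI false
set_option linter.unusedSectionVars false
set_option backward.isDefEq.respectTransparency.types false
universe u

namespace Groth.Agent.Helper2.FibDim

open CategoryTheory CategoryTheory.Limits AlgebraicGeometry TensorProduct TopologicalSpace Topology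

/-- compatibility of the charts with the morphism, on points -/
theorem chart_apply {X S : Scheme.{u}} (f : X ⟶ S)
    {W : X.Opens} (hW : IsAffineOpen W) {V : S.Opens} (hV : IsAffineOpen V) (e : W ≤ f ⁻¹ᵁ V)
    (q : PrimeSpectrum Γ(X, W)) :
    letI := (f.appLE V W e).hom.toAlgebra
    hV.fromSpec (PrimeSpectrum.comap (algebraMap Γ(S, V) Γ(X, W)) q) = f (hW.fromSpec q) := by
  letI alg := (f.appLE V W e).hom.toAlgebra
  have hcomm := IsAffineOpen.SpecMap_appLE_fromSpec f hV hW e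
  have h2 : f (hW.fromSpec q) = hV.fromSpec (Spec.map (f.appLE V W e) q) := by
    rw [← Scheme.Hom.comp_apply, ← Scheme.Hom.comp_apply, hcomm]
  rw [h2]
  rfl

theorem fromSpec_mem {X : Scheme.{u}} {W : X.Opens} (hW : IsAffineOpen W)
    (q : PrimeSpectrum Γ(X, W)) : hW.fromSpec q ∈ W := by
  have : hW.fromSpec q ∈ Set.range hW.fromSpec := ⟨q, rfl⟩
  rw [hW.range_fromSpec] at this
  exact this

theorem primeIdealOf_fromSpec {X : Scheme.{u}} {W : X.Opens} (hW : IsAffineOpen W)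
    (q : PrimeSpectrum Γ(X, W)) : hW.primeIdealOf ⟨hW.fromSpec q, fromSpec_mem hW q⟩ = q :=
  hW.fromSpec.isOpenEmbedding.injective
    (hW.fromSpec_primeIdealOf ⟨hW.fromSpec q, fromSpec_mem hW q⟩)

/-- the chart formula, indexed by primes -/
theorem chart_iff' {X S : Scheme.{u}} (f : X ⟶ S)
    {W : X.Opens} (hW : IsAffineOpen W) {V : S.Opens} (hV : IsAffineOpen V) (e : W ≤ f ⁻¹ᵁ V)
    (q : PrimeSpectrum Γ(X, W)) (n : ℕ) :
    letI := (f.appLE V W e).hom.toAlgebra
    (∀ Q : PrimeSpectrum ((q.asIdeal.under Γ(S, V)).Fiber Γ(X, W)),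
        Q.asIdeal.comap (Algebra.TensorProduct.includeRight.toRingHom) = q.asIdeal →
          FlatMor.localDim (PrimeSpectrum ((q.asIdeal.under Γ(S, V)).Fiber Γ(X, W))) Q ≤
            (n : WithBot ℕ∞)) ↔
      FlatMor.fibreDimAt f (hW.fromSpec q) ≤ (n : WithBot ℕ∞) := by
  have h := chart_iff f (hW.fromSpec q) hW hV e (fromSpec_mem hW q) n
  rw [primeIdealOf_fromSpec hW q] at h
  exact h

theorem S1240_retro {X S : Scheme.{u}} (f : X ⟶ S) [Flat f] [LocallyOfFiniteType f]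
    (U : S.Opens) (hU : Dense (U : Set S)) (e : ℕ)
    (hle : ∀ x : X, f.base x ∈ U → FlatMor.fibreDimAt f x ≤ e)
    (hr : IsRetrocompact (U : Set S)) (x : X) :
    FlatMor.fibreDimAt f x ≤ e := by
  obtain ⟨s', hs'U, hs'⟩ := exists_specializes_mem_of_dense_retrocompact U hU hr (f x)
  obtain ⟨ξ, -, hξf, hξ⟩ := exists_generization_fibreDimAt_ge_of_flat f x s' hs'
  have h1 : f.base ξ ∈ U := by
    have : f.base ξ = s' := hξf
    rw [this]
    exact hs'U
  exact hξ.trans (hle ξ h1)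

theorem S1240_lfp {X S : Scheme.{u}} (f : X ⟶ S) [Flat f] [LocallyOfFinitePresentation f]
    (U : S.Opens) (hU : Dense (U : Set S)) (e : ℕ)
    (hle : ∀ x : X, f.base x ∈ U → FlatMor.fibreDimAt f x ≤ e) (x : X) :
    FlatMor.fibreDimAt f x ≤ e := by
  by_contra hx
  obtain ⟨V, hV, hxV, -⟩ := exists_isAffineOpen_mem_and_subset (U := (⊤ : S.Opens))
    (x := f x) trivial
  obtain ⟨W, hW, hxW, hWV⟩ := exists_isAffineOpen_mem_and_subset (U := f ⁻¹ᵁ V) (x := x) hxV
  have e' : W ≤ f ⁻¹ᵁ V := hWV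
  letI alg := (f.appLE V W e').hom.toAlgebra
  haveI hfp : Algebra.FinitePresentation Γ(S, V) Γ(X, W) :=
    HasRingHomProperty.appLE (P := @LocallyOfFinitePresentation) f inferInstance ⟨V, hV⟩
      ⟨W, hW⟩ e'
  obtain ⟨ho, hc⟩ := S9176_main Γ(S, V) Γ(X, W) e
  obtain ⟨G, hG⟩ : ∃ G : Set (PrimeSpectrum Γ(X, W)), G =
      {q : PrimeSpectrum Γ(X, W) |
        ∀ Q : PrimeSpectrum ((q.asIdeal.under Γ(S, V)).Fiber Γ(X, W)),
        Q.asIdeal.comap (Algebra.TensorProduct.includeRight.toRingHom) = q.asIdeal →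
          FlatMor.localDim (PrimeSpectrum ((q.asIdeal.under Γ(S, V)).Fiber Γ(X, W))) Q ≤
            (e : WithBot ℕ∞)} := ⟨_, rfl⟩
  rw [← hG] at ho hc
  have hmem : ∀ q : PrimeSpectrum Γ(X, W),
      q ∈ G ↔ FlatMor.fibreDimAt f (hW.fromSpec q) ≤ (e : WithBot ℕ∞) := by
    intro q
    rw [hG]
    exact chart_iff' f hW hV e' q e
  have hT : IsConstructible Gᶜ := (hc.isConstructible ho).compl
  have hT' : IsConstructible (PrimeSpectrum.comap (algebraMap Γ(S, V) Γ(X, W)) '' Gᶜ) :=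
    PrimeSpectrum.isConstructible_comap_image (RingHom.finitePresentation_algebraMap.mpr hfp) hT
  haveI : LocallyOfFiniteType f := inferInstance
  have hgen : StableUnderGeneralization
      (PrimeSpectrum.comap (algebraMap Γ(S, V) Γ(X, W)) '' Gᶜ) := by
    rintro p p' hpp' ⟨q, hq, rfl⟩
    have hq' : ¬ FlatMor.fibreDimAt f (hW.fromSpec q) ≤ (e : WithBot ℕ∞) :=
      fun h => hq ((hmem q).mpr h)
    have hsp : hV.fromSpec p' ⤳ f (hW.fromSpec q) := by
      rw [← chart_apply f hW hV e' q]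
      exact hpp'.map hV.fromSpec.continuous
    obtain ⟨ξ, hξsp, hξf, hξ⟩ :=
      exists_generization_fibreDimAt_ge_of_flat f (hW.fromSpec q) (hV.fromSpec p') hsp
    have hξW : ξ ∈ W := hξsp.mem_open W.2 (fromSpec_mem hW q)
    refine ⟨hW.primeIdealOf ⟨ξ, hξW⟩, ?_, ?_⟩
    · intro hmemG
      have h1 := (hmem _).mp hmemG
      rw [hW.fromSpec_primeIdealOf ⟨ξ, hξW⟩] at h1
      exact hq' (hξ.trans h1)
    · apply hV.fromSpec.isOpenEmbedding.injective
      rw [chart_apply f hW hV e', hW.fromSpec_primeIdealOf ⟨ξ, hξW⟩]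
      exact hξf
  have hopen : IsOpen (PrimeSpectrum.comap (algebraMap Γ(S, V) Γ(X, W)) '' Gᶜ) :=
    PrimeSpectrum.isOpen_of_stableUnderGeneralization_of_isConstructible hgen hT'
  have hopen' : IsOpen (hV.fromSpec ''
      (PrimeSpectrum.comap (algebraMap Γ(S, V) Γ(X, W)) '' Gᶜ)) :=
    hV.fromSpec.isOpenEmbedding.isOpenMap _ hopen
  have hne : (hV.fromSpec ''
      (PrimeSpectrum.comap (algebraMap Γ(S, V) Γ(X, W)) '' Gᶜ)).Nonempty := by
    refine ⟨_, ⟨_, ⟨hW.primeIdealOf ⟨x, hxW⟩, ?_, rfl⟩, rfl⟩⟩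
    intro hmemG
    have h1 := (hmem _).mp hmemG
    rw [hW.fromSpec_primeIdealOf ⟨x, hxW⟩] at h1
    exact hx h1
  obtain ⟨s₁, ⟨_, ⟨q₁, hq₁, rfl⟩, rfl⟩, hs₁U⟩ := hU.inter_open_nonempty _ hopen' hne
  apply hq₁
  rw [hmem q₁]
  apply hle
  have h2 : f.base (hW.fromSpec q₁) =
      hV.fromSpec (PrimeSpectrum.comap (algebraMap Γ(S, V) Γ(X, W)) q₁) :=
    (chart_apply f hW hV e' q₁).symm
  rw [h2]
  exact hs₁U

/-- **S1240** -/
theorem S1240_main {X S : Scheme.{u}} (f : X ⟶ S) [Flat f] [LocallyOfFiniteType f]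
    (U : S.Opens) (hU : Dense (U : Set S)) (e : ℕ)
    (hle : ∀ x : X, f.base x ∈ U → FlatMor.fibreDimAt f x ≤ e)
    (h : LocallyOfFinitePresentation f ∨ IsRetrocompact (U : Set S)) (x : X) :
    FlatMor.fibreDimAt f x ≤ e := by
  rcases h with h | h
  · haveI := h
    exact S1240_lfp f U hU e hle x
  · exact S1240_retro f U hU e hle h x

end Groth.Agent.Helper2.FibDim
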