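import Mathlib
import Groth.Prelude.Def_Flat
import Groth.Agent.Lib.Helper2.FibDim.DenseOpen2

/-!
# Lower semicontinuity of the fibre dimension for flat morphisms of finite presentation (helper2)
-/

set_option autoImplicit false
set_option linter.style.haveILetI false
set_option linter.unusedSectionVars false
set_option backward.isDefEq.respectTransparency.types false
universe u

namespace Groth.Agent.Helper2.FibDim

open CategoryTheory CategoryTheory.Limits AlgebraicGeometry TensorProduct TopologicalSpace Topology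

theorem not_le_iff_succ_le (a : WithBot ℕ∞) (m : ℕ) :
    ¬ a ≤ (m : WithBot ℕ∞) ↔ ((m + 1 : ℕ) : WithBot ℕ∞) ≤ a := by
  induction a using WithBot.recBotCoe with
  | bot => simp
  | coe b =>
    induction b using ENat.recTopCoe with
    | top =>
      constructor
      · intro _
        exact le_top
      · intro _ h
        have h' : ((⊤ : ℕ∞) : WithBot ℕ∞) ≤ ((m : ℕ∞) : WithBot ℕ∞) := h
        rw [WithBot.coe_le_coe] at h'
        exact absurd h' (by simp)
    | coe k =>
      have h1 : ((k : ℕ∞) : WithBot ℕ∞) ≤ (m : WithBot ℕ∞) ↔ k ≤ m := by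
        exact_mod_cast Iff.rfl
      have h2 : ((m + 1 : ℕ) : WithBot ℕ∞) ≤ ((k : ℕ∞) : WithBot ℕ∞) ↔ m + 1 ≤ k := by
        exact_mod_cast Iff.rfl
      rw [h1, h2]
      omega

/-- on an affine chart, the image of the locus where the local fibre dimension exceeds `m` is
open, for a flat morphism locally of finite presentation -/
theorem isOpen_image_inter_chart {X S : Scheme.{u}} (f : X ⟶ S) [Flat f]
    [LocallyOfFinitePresentation f]
    {W : X.Opens} (hW : IsAffineOpen W) {V : S.Opens} (hV : IsAffineOpen V) (e' : W ≤ f ⁻¹ᵁ V)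
    (m : ℕ) :
    IsOpen (f '' ({x : X | ¬ FlatMor.fibreDimAt f x ≤ (m : WithBot ℕ∞)} ∩ (W : Set X))) := by
  letI alg := (f.appLE V W e').hom.toAlgebra
  haveI hfp : Algebra.FinitePresentation Γ(S, V) Γ(X, W) :=
    HasRingHomProperty.appLE (P := @LocallyOfFinitePresentation) f inferInstance ⟨V, hV⟩
      ⟨W, hW⟩ e'
  obtain ⟨ho, hc⟩ := S9176_main Γ(S, V) Γ(X, W) m
  obtain ⟨G, hG⟩ : ∃ G : Set (PrimeSpectrum Γ(X, W)), G =
      {q : PrimeSpectrum Γ(X, W) |
        ∀ Q : PrimeSpectrum ((q.asIdeal.under Γ(S, V)).Fiber Γ(X, W)),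
        Q.asIdeal.comap (Algebra.TensorProduct.includeRight.toRingHom) = q.asIdeal →
          FlatMor.localDim (PrimeSpectrum ((q.asIdeal.under Γ(S, V)).Fiber Γ(X, W))) Q ≤
            (m : WithBot ℕ∞)} := ⟨_, rfl⟩
  rw [← hG] at ho hc
  have hmem : ∀ q : PrimeSpectrum Γ(X, W),
      q ∈ G ↔ FlatMor.fibreDimAt f (hW.fromSpec q) ≤ (m : WithBot ℕ∞) := by
    intro q
    rw [hG]
    exact chart_iff' f hW hV e' q m
  have hT : IsConstructible Gᶜ := (hc.isConstructible ho).compl
  have hT' : IsConstructible (PrimeSpectrum.comap (algebraMap Γ(S, V) Γ(X, W)) '' Gᶜ) :=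
    PrimeSpectrum.isConstructible_comap_image (RingHom.finitePresentation_algebraMap.mpr hfp) hT
  haveI : LocallyOfFiniteType f := inferInstance
  have hgen : StableUnderGeneralization
      (PrimeSpectrum.comap (algebraMap Γ(S, V) Γ(X, W)) '' Gᶜ) := by
    rintro p p' hpp' ⟨q, hq, rfl⟩
    have hq' : ¬ FlatMor.fibreDimAt f (hW.fromSpec q) ≤ (m : WithBot ℕ∞) :=
      fun h => hq ((hmem q).mpr h)
    have hsp : hV.fromSpec p' ⤳ f (hW.fromSpec q) := by
      rw [← chart_apply f hW hV e' q]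
      exact hpp'.map hV.fromSpec.continuous
    obtain ⟨ξ, hξsp, hξf, hξ⟩ :=
      exists_generization_fibreDimAt_ge_of_flat f (hW.fromSpec q) (hV.fromSpec p') hsp
    have hξW : ξ ∈ W := hξsp.mem_open W.2 (fromSpec_mem hW q)
    refine ⟨hW.primeIdealOf ⟨ξ, hξW⟩, ?_, ?_⟩
    · intro hmemG
      have h1 := (hmem _).mp hmemG
      rw [hW.fromSpec_primeIdealOf ⟨ξ, hξW⟩] at h1
      exact hq' (hξ.trans h1)
    · apply hV.fromSpec.isOpenEmbedding.injective
      rw [chart_apply f hW hV e', hW.fromSpec_primeIdealOf ⟨ξ, hξW⟩]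
      exact hξf
  have hopen : IsOpen (PrimeSpectrum.comap (algebraMap Γ(S, V) Γ(X, W)) '' Gᶜ) :=
    PrimeSpectrum.isOpen_of_stableUnderGeneralization_of_isConstructible hgen hT'
  have hopen' : IsOpen (hV.fromSpec ''
      (PrimeSpectrum.comap (algebraMap Γ(S, V) Γ(X, W)) '' Gᶜ)) :=
    hV.fromSpec.isOpenEmbedding.isOpenMap _ hopen
  convert hopen' using 1
  ext s
  constructor
  · rintro ⟨x, ⟨hx, hxW⟩, rfl⟩
    refine ⟨_, ⟨hW.primeIdealOf ⟨x, hxW⟩, ?_, rfl⟩, ?_⟩
    · intro hmemG
      have h1 := (hmem _).mp hmemG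
      rw [hW.fromSpec_primeIdealOf ⟨x, hxW⟩] at h1
      exact hx h1
    · rw [chart_apply f hW hV e', hW.fromSpec_primeIdealOf ⟨x, hxW⟩]
  · rintro ⟨_, ⟨q, hq, rfl⟩, rfl⟩
    refine ⟨hW.fromSpec q, ⟨?_, fromSpec_mem hW q⟩, (chart_apply f hW hV e' q).symm⟩
    intro h
    exact hq ((hmem q).mpr h)

/-- the image of the locus where the local fibre dimension is at least `n` is open, for a flat
morphism locally of finite presentation -/
theorem isOpen_image_setOf_le_fibreDimAt {X S : Scheme.{u}} (f : X ⟶ S) [Flat f]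
    [LocallyOfFinitePresentation f] (n : ℕ) :
    IsOpen (f '' {x : X | (n : WithBot ℕ∞) ≤ FlatMor.fibreDimAt f x}) := by
  cases n with
  | zero =>
    have huniv : {x : X | ((0 : ℕ) : WithBot ℕ∞) ≤ FlatMor.fibreDimAt f x} = Set.univ := by
      ext x
      simp only [Set.mem_ofPred_eq, Set.mem_univ, iff_true]
      obtain ⟨d, hd⟩ := Groth.Agent.Lib.Helper4.FibDimComp1.exists_fibreDimAt_nat f x
      rw [hd]
      exact_mod_cast Nat.zero_le d
    rw [huniv, Set.image_univ]
    exact f.isOpenMap.isOpen_range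
  | succ m =>
    rw [isOpen_iff_forall_mem_open]
    rintro s ⟨x, hx, rfl⟩
    obtain ⟨V, hV, hxV, -⟩ := exists_isAffineOpen_mem_and_subset (U := (⊤ : S.Opens))
      (x := f x) trivial
    obtain ⟨W, hW, hxW, hWV⟩ := exists_isAffineOpen_mem_and_subset (U := f ⁻¹ᵁ V) (x := x) hxV
    have e' : W ≤ f ⁻¹ᵁ V := hWV
    refine ⟨_, ?_, isOpen_image_inter_chart f hW hV e' m, ⟨x, ⟨?_, hxW⟩, rfl⟩⟩
    · rintro _ ⟨z, ⟨hz, -⟩, rfl⟩
      exact ⟨z, (not_le_iff_succ_le _ m).mp hz, rfl⟩
    · exact (not_le_iff_succ_le _ m).mpr hx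

/-- **S0404** -/
theorem S0404_main {X S : Scheme.{u}} (f : X ⟶ S) [Flat f] [LocallyOfFinitePresentation f]
    (c : WithBot ℕ∞) :
    IsOpen {s : S | c < topologicalKrullDim (f.fiber s)} := by
  induction c using WithBot.recBotCoe with
  | bot =>
    have h : {s : S | (⊥ : WithBot ℕ∞) < topologicalKrullDim (f.fiber s)} =
        {s : S | ((0 : ℕ) : WithBot ℕ∞) ≤ topologicalKrullDim (f.fiber s)} := by
      ext s
      simp only [Set.mem_ofPred_eq]
      constructor
      · intro h
        obtain ⟨b, hb⟩ := WithBot.ne_bot_iff_exists.mp (ne_of_gt h)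
        rw [← hb]
        have h0 : (0 : ℕ∞) ≤ b := zero_le
        exact_mod_cast h0
      · intro h
        exact lt_of_lt_of_le (WithBot.bot_lt_coe _) h
    rw [h, Groth.Agent.Lib.Helper4.Chev3.setOf_le_dim_fiber_eq]
    exact isOpen_image_setOf_le_fibreDimAt f 0
  | coe b =>
    induction b using ENat.recTopCoe with
    | top =>
      convert isOpen_empty
      ext s
      simp only [Set.mem_ofPred_eq, Set.mem_empty_iff_false, iff_false, not_lt]
      exact le_top
    | coe m =>
      have h : {s : S | ((m : ℕ∞) : WithBot ℕ∞) < topologicalKrullDim (f.fiber s)} =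
          {s : S | ((m + 1 : ℕ) : WithBot ℕ∞) ≤ topologicalKrullDim (f.fiber s)} := by
        ext s
        simp only [Set.mem_ofPred_eq]
        rw [← not_le_iff_succ_le, not_le]
        rfl
      rw [h, Groth.Agent.Lib.Helper4.Chev3.setOf_le_dim_fiber_eq]
      exact isOpen_image_setOf_le_fibreDimAt f (m + 1)

end Groth.Agent.Helper2.FibDim
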