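import Mathlib
import Groth.Prelude.Def_Flat
import Groth.Agent.Lib.Helper4.FibDimComp1
import Groth.Agent.Lib.Helper2.FibDim.FlatGen3
import Groth.Agent.Lib.Helper2.FibDim.Retro
import Groth.Agent.Lib.Helper2.FibDim.LowerSemi

/-!
# Opens of constant relative dimension, dense in every fibre (S9757) (helper2)
-/

set_option autoImplicit false
set_option linter.style.haveILetI false
set_option linter.unusedSectionVars false
set_option backward.isDefEq.respectTransparency.types false
universe u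

namespace Groth.Agent.Helper2.FibDim

open CategoryTheory CategoryTheory.Limits AlgebraicGeometry TensorProduct TopologicalSpace Topology
open Groth.Agent.Lib.Helper4.FibDim1

/-- a point in the closure of a quasi-compact open subset of a prime spectrum has a generization in
that subset -/
theorem exists_le_mem_of_mem_closure (A : Type u) [CommRing A] (W : Set (PrimeSpectrum A))
    (hWo : IsOpen W) (hWc : IsCompact W) (p : PrimeSpectrum A) (hp : p ∈ closure W) :
    ∃ q ∈ W, q ≤ p := by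
  classical
  obtain ⟨t, rfl⟩ := PrimeSpectrum.isCompact_isOpen_iff.mp ⟨hWc, hWo⟩
  by_contra hcon
  have key : ∀ f ∈ t, ∃ g : A, g ∉ p.asIdeal ∧ ∃ N : ℕ, g * f ^ N = 0 := by
    intro f hf
    by_contra hno
    let M : Submonoid A := p.asIdeal.primeCompl ⊔ Submonoid.powers f
    have h0 : Disjoint (((⊥ : Ideal A) : Ideal A) : Set A) (M : Set A) := by
      rw [Set.disjoint_left]
      intro a ha haM
      have ha0 : a = 0 := ha
      obtain ⟨g, hg, y, ⟨N, rfl⟩, hgy⟩ := Submonoid.mem_sup.mp haM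
      exact hno ⟨g, hg, N, by rw [hgy, ha0]⟩
    obtain ⟨q, hq, -, hqM⟩ := Ideal.exists_le_prime_disjoint (⊥ : Ideal A) M h0
    apply hcon
    refine ⟨⟨q, hq⟩, ?_, ?_⟩
    · intro hqt
      have hfq : f ∈ q := hqt hf
      exact Set.disjoint_left.mp hqM hfq
        (Submonoid.mem_sup_right (Submonoid.mem_powers f))
    · intro a ha
      by_contra hap
      exact Set.disjoint_left.mp hqM ha (Submonoid.mem_sup_left hap)
  choose! g hg N hN using key
  have hG : (∏ f ∈ t, g f) ∉ p.asIdeal := by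
    intro h
    obtain ⟨f, hf, hgf⟩ := (Ideal.IsPrime.prod_mem_iff).mp h
    exact hg f hf hgf
  obtain ⟨q, hqG, hqW⟩ := mem_closure_iff.mp hp (PrimeSpectrum.basicOpen (∏ f ∈ t, g f))
    (PrimeSpectrum.basicOpen (∏ f ∈ t, g f)).2 hG
  have hqW' : ¬ (↑t ⊆ (q.asIdeal : Set A)) := hqW
  rw [Set.not_subset] at hqW'
  obtain ⟨f, hf, hfq⟩ := hqW'
  have h1 : g f * f ^ N f ∈ q.asIdeal := by
    rw [hN f hf]
    exact q.asIdeal.zero_mem
  rcases q.isPrime.mem_or_mem h1 with h2 | h2
  · apply hqG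
    exact (Ideal.IsPrime.prod_mem_iff).mpr ⟨f, hf, h2⟩
  · exact hfq (q.isPrime.mem_of_pow_mem _ h2)

/-- a point in the closure of a retrocompact open subset of a scheme has a generization in that
subset -/
theorem exists_specializes_mem_of_mem_closure_retrocompact {S : Scheme.{u}} (U : Set S)
    (hUo : IsOpen U) (hr : IsRetrocompact U) (s : S) (hs : s ∈ closure U) :
    ∃ s' : S, s' ∈ U ∧ s' ⤳ s := by
  obtain ⟨V, hV, hsV, -⟩ := exists_isAffineOpen_mem_and_subset (U := (⊤ : S.Opens)) (x := s)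
    trivial
  have hemb := hV.fromSpec.isOpenEmbedding
  let W : Set (PrimeSpectrum Γ(S, V)) := hV.fromSpec ⁻¹' U
  have hWo : IsOpen W := hUo.preimage hV.fromSpec.continuous
  have hWc : IsCompact W := by
    have h1 : IsCompact (U ∩ (V : Set S)) := hr hV.isCompact V.2
    have h2 : W = hV.fromSpec ⁻¹' (U ∩ (V : Set S)) := by
      ext q
      constructor
      · intro hq
        refine ⟨hq, ?_⟩
        have : hV.fromSpec q ∈ Set.range hV.fromSpec := ⟨q, rfl⟩
        rw [hV.range_fromSpec] at this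
        exact this
      · intro hq
        exact hq.1
    rw [h2]
    apply hemb.isInducing.isCompact_preimage' h1
    rw [hV.range_fromSpec]
    exact Set.inter_subset_right
  have hp : hV.primeIdealOf ⟨s, hsV⟩ ∈ closure W := by
    have h3 : closure W = hV.fromSpec ⁻¹' closure U :=
      (hemb.isOpenMap.preimage_closure_eq_closure_preimage hV.fromSpec.continuous U).symm
    rw [h3]
    change hV.fromSpec (hV.primeIdealOf ⟨s, hsV⟩) ∈ closure U
    rw [hV.fromSpec_primeIdealOf ⟨s, hsV⟩]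
    exact hs
  obtain ⟨q, hqW, hq⟩ := exists_le_mem_of_mem_closure Γ(S, V) W hWo hWc
    (hV.primeIdealOf ⟨s, hsV⟩) hp
  refine ⟨hV.fromSpec q, hqW, ?_⟩
  have h3 := ((PrimeSpectrum.le_iff_specializes _ _).mp hq).map hV.fromSpec.continuous
  rwa [hV.fromSpec_primeIdealOf ⟨s, hsV⟩] at h3

section Main
variable {X S : Scheme.{u}} (f : X ⟶ S) [Flat f] [LocallyOfFinitePresentation f]

/-- around a point maximal in its fibre the local fibre dimension is constant -/
theorem mem_interior_setOf_fibreDimAt_eq (z : X)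
    (hmax : ∀ z' : X, f z' = f z → z' ⤳ z → z' = z) (d : ℕ)
    (hd : FlatMor.fibreDimAt f z = (d : WithBot ℕ∞)) :
    z ∈ interior {x : X | FlatMor.fibreDimAt f x = (d : WithBot ℕ∞)} := by
  have htr : FlatMor.fibreDimAt f z = ((tr f z : ℕ) : WithBot ℕ∞) :=
    Groth.Agent.Lib.Helper4.LocNoethFib1.fibreDimAt_eq_tr_of_max f z hmax
  have hO₁ : IsOpen {x : X | FlatMor.fibreDimAt f x ≤ (d : WithBot ℕ∞)} :=
    Groth.Agent.Lib.Helper4.Chev2.S0402_main f d
  -- the locus where the fibre dimension is smaller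
  obtain ⟨W, hWdef⟩ : ∃ W : Set X,
      W = {x : X | ¬ ((d : ℕ) : WithBot ℕ∞) ≤ FlatMor.fibreDimAt f x} := ⟨_, rfl⟩
  have hWopen : IsOpen W := by
    rw [hWdef]
    exact (Groth.Agent.Lib.Helper4.Chev3.isClosed_setOf_le_fibreDimAt f _).isOpen_compl
  have hWretro : IsRetrocompact W := by
    rcases Nat.eq_zero_or_pos d with h0 | hpos
    · have : W = ∅ := by
        rw [hWdef, h0]
        ext x
        simp only [Set.mem_ofPred_eq, Set.mem_empty_iff_false, iff_false, not_not]
        refine le_trans ?_ (Groth.Agent.Lib.Helper4.FibDimComp1.tr_le_fibreDimAt' f x)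
        exact_mod_cast Nat.zero_le _
      rw [this]
      exact IsRetrocompact.empty
    · obtain ⟨d', rfl⟩ : ∃ d', d = d' + 1 := ⟨d - 1, by omega⟩
      have : W = {x : X | FlatMor.fibreDimAt f x ≤ (d' : WithBot ℕ∞)} := by
        rw [hWdef]
        ext x
        simp only [Set.mem_ofPred_eq]
        rw [← not_le_iff_succ_le, not_not]
      rw [this]
      exact S9355_main f d'
  have hz : z ∉ closure W := by
    intro hzW
    obtain ⟨x', hx'W, hx'sp⟩ :=
      exists_specializes_mem_of_mem_closure_retrocompact W hWopen hWretro z hzW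
    rw [hWdef] at hx'W
    apply hx'W
    have h1 := tr_le_fibreDimAt_of_specializes_of_flat_fp f z x' hx'sp
    rw [← htr, hd] at h1
    exact h1
  rw [mem_interior]
  refine ⟨{x : X | FlatMor.fibreDimAt f x ≤ (d : WithBot ℕ∞)} ∩ (closure W)ᶜ, ?_,
    hO₁.inter isClosed_closure.isOpen_compl, ⟨hd.le, hz⟩⟩
  rintro x ⟨hx1, hx2⟩
  apply le_antisymm hx1
  by_contra hcon
  exact hx2 (subset_closure (by rw [hWdef]; exact hcon))

theorem S9757_main :
    ∃ U : ℕ → X.Opens, (∀ s : S, Dense ((f.fiberι s) ⁻¹' ((⨆ d, U d : X.Opens) : Set ↑X))) ∧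
      ∀ (d : ℕ) (x : ↑X), x ∈ U d → FlatMor.fibreDimAt f x = d := by
  refine ⟨fun d => ⟨interior {x : X | FlatMor.fibreDimAt f x = (d : WithBot ℕ∞)},
    isOpen_interior⟩, ?_, ?_⟩
  · intro s
    rw [dense_iff_inter_open]
    intro O hO ⟨w, hw⟩
    obtain ⟨z, hzsp, hzf, hzmax⟩ :=
      Groth.Agent.Lib.Helper4.FibDimBC2.exists_fibreMax_ge f (f.fiberι s w)
    have hfw : f (f.fiberι s w) = s := Groth.Agent.Lib.Helper4.FibDim1.fiberι_mem f s w
    have hzs : f z = s := hzf.trans hfw
    obtain ⟨wz, hwz⟩ : ∃ wz : f.fiber s, f.fiberι s wz = z :=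
      ⟨(f.fiberHomeo s).symm ⟨z, hzs⟩, f.fiberι_fiberHomeo_symm s _⟩
    have hsp' : wz ⤳ w := by
      rw [← (f.fiberι s).isEmbedding.isInducing.specializes_iff, hwz]
      exact hzsp
    refine ⟨wz, hsp'.mem_open hO hw, ?_⟩
    obtain ⟨d, hd⟩ := Groth.Agent.Lib.Helper4.FibDimComp1.exists_fibreDimAt_nat f z
    have hmem := mem_interior_setOf_fibreDimAt_eq f z hzmax d hd
    rw [Set.mem_preimage, hwz]
    exact (TopologicalSpace.Opens.mem_iSup (ι := ℕ)).mpr ⟨d, hmem⟩
  · intro d x hx
    have hx' : x ∈ interior {x : X | FlatMor.fibreDimAt f x = (d : WithBot ℕ∞)} := hx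
    have h1 : x ∈ {x : X | FlatMor.fibreDimAt f x = (d : WithBot ℕ∞)} := interior_subset hx'
    exact h1

end Main

end Groth.Agent.Helper2.FibDim
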