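import Mathlib
import Groth.Prelude.Def_Flat
import Groth.Agent.Lib.Helper4.Equi10
import Groth.Agent.Lib.Helper2.FibDim.RelDimOpens

/-!
# For flat morphisms locally of finite presentation the locus of large fibres is open (helper2)
-/

set_option autoImplicit false
set_option linter.style.haveILetI false
set_option linter.unusedSectionVars false
set_option backward.isDefEq.respectTransparency.types false
universe u

namespace Groth.Agent.Helper2.FibDim

open CategoryTheory CategoryTheory.Limits AlgebraicGeometry TensorProduct TopologicalSpace Topology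
open Groth.Agent.Lib.Helper4.FibDim1

theorem isOpen_image_setOf_not_fibreDimAt_le {X S : Scheme.{u}} (f : X ⟶ S) [Flat f]
    [LocallyOfFinitePresentation f] (n : ℕ) :
    IsOpen (f '' {x : X | ¬ FlatMor.fibreDimAt f x ≤ (n : WithBot ℕ∞)}) := by
  obtain ⟨O, hOdef⟩ : ∃ O : Set X, O = ⋃ (e : ℕ) (_ : n < e),
      interior {x : X | FlatMor.fibreDimAt f x = (e : WithBot ℕ∞)} := ⟨_, rfl⟩
  have hO : IsOpen O := by
    rw [hOdef]
    exact isOpen_iUnion fun e => isOpen_iUnion fun _ => isOpen_interior
  have himg : f '' {x : X | ¬ FlatMor.fibreDimAt f x ≤ (n : WithBot ℕ∞)} = f '' O := by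
    apply Set.Subset.antisymm
    · rintro _ ⟨x, hx, rfl⟩
      obtain ⟨z, hz, -, hzmax, htr⟩ :=
        Groth.Agent.Lib.Helper4.Equi10.exists_max_tr_eq_fibreDimAt f x
      have hzd := Groth.Agent.Lib.Helper4.Equi10.fibreDimAt_eq_tr_of_max_nn f z hzmax
      have hlt : n < tr f z := by
        by_contra hle
        apply hx
        rw [← htr]
        exact_mod_cast not_lt.1 hle
      refine ⟨z, ?_, hz⟩
      rw [hOdef]
      simp only [Set.mem_iUnion]
      exact ⟨tr f z, hlt, mem_interior_setOf_fibreDimAt_eq f z hzmax (tr f z) hzd⟩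
    · rintro _ ⟨x, hx, rfl⟩
      rw [hOdef] at hx
      simp only [Set.mem_iUnion] at hx
      obtain ⟨e, hne, hxe⟩ := hx
      have hxe'' : x ∈ {x : X | FlatMor.fibreDimAt f x = (e : WithBot ℕ∞)} := interior_subset hxe
      have hxe' : FlatMor.fibreDimAt f x = (e : WithBot ℕ∞) := hxe''
      refine ⟨x, ?_, rfl⟩
      show ¬ FlatMor.fibreDimAt f x ≤ (n : WithBot ℕ∞)
      rw [hxe']
      intro hle
      have : e ≤ n := by exact_mod_cast hle
      omega
  rw [himg]
  exact f.isOpenMap O hO

end Groth.Agent.Helper2.FibDim
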