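import Mathlib
import Groth.Prelude.Def_Flat
import Groth.Agent.Lib.Helper4.FibDimComp1
import Groth.Agent.Lib.Helper3.FibStalk6
import Groth.Agent.Lib.Helper4.RelEffCartierFlat1

/-!
# Local fibre dimension of a composite, first morphism flat at the point (S9354) (helper2)
-/

set_option autoImplicit false
set_option linter.style.haveILetI false
set_option linter.unusedSectionVars false
set_option backward.isDefEq.respectTransparency.types false
universe u

namespace Groth.Agent.Helper2.FibDim

open CategoryTheory CategoryTheory.Limits AlgebraicGeometry TensorProduct TopologicalSpace Topology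
open Groth.Agent.Lib.Helper4.FibDim1 Groth.Agent.Lib.Helper4.BaseChg1
  Groth.Agent.Lib.Helper4.UnivOpen1 Groth.Agent.Lib.Helper4.Val1
  Groth.Agent.Lib.Helper4.FibDimComp1

/-- generizations of the image lift through a point at which the morphism is flat -/
theorem exists_generization_of_flat_stalkMap {W T : Scheme.{u}} (φ : W ⟶ T) (w : W)
    (hfl : (φ.stalkMap w).hom.Flat) (t' : T) (ht' : t' ⤳ φ w) :
    ∃ ξ : W, ξ ⤳ w ∧ φ ξ = t' := by
  have hsurj : Function.Surjective (Spec.map (φ.stalkMap w)) := by
    algebraize [(φ.stalkMap w).hom]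
    haveI : IsLocalHom (algebraMap (T.presheaf.stalk (φ w)) (W.presheaf.stalk w)) :=
      inferInstanceAs (IsLocalHom (φ.stalkMap w).hom)
    haveI : Module.FaithfullyFlat (T.presheaf.stalk (φ w)) (W.presheaf.stalk w) :=
      Module.FaithfullyFlat.of_flat_of_isLocalHom
    exact PrimeSpectrum.comap_surjective_of_faithfullyFlat
      (A := T.presheaf.stalk (φ w)) (B := W.presheaf.stalk w)
  obtain ⟨p, hp⟩ : t' ∈ Set.range (T.fromSpecStalk (φ w)) := by
    rw [Scheme.range_fromSpecStalk]
    exact ht'
  obtain ⟨q, hq⟩ := hsurj p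
  refine ⟨W.fromSpecStalk w q, ?_, ?_⟩
  · have : W.fromSpecStalk w q ∈ Set.range (W.fromSpecStalk w) := ⟨q, rfl⟩
    rwa [Scheme.range_fromSpecStalk] at this
  · rw [← Scheme.Hom.comp_apply, ← Scheme.SpecMap_stalkMap_fromSpecStalk, Scheme.Hom.comp_apply,
      hq, hp]

section RingFlat

theorem flat_localization_of_le {A C : Type u} [CommRing A] [CommRing C] [Algebra A C]
    (q q' : Ideal C) [q.IsPrime] [q'.IsPrime] (hle : q' ≤ q)
    (h : Module.Flat A (Localization.AtPrime q)) : Module.Flat A (Localization.AtPrime q') := by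
  have hM : q.primeCompl ≤ q'.primeCompl := fun c hc hc' => hc (hle hc')
  letI := IsLocalization.localizationAlgebraOfSubmonoidLe (Localization.AtPrime q)
    (Localization.AtPrime q') q.primeCompl q'.primeCompl hM
  haveI := IsLocalization.localization_isScalarTower_of_submonoid_le (Localization.AtPrime q)
    (Localization.AtPrime q') q.primeCompl q'.primeCompl hM
  haveI := IsLocalization.isLocalization_of_submonoid_le (Localization.AtPrime q)
    (Localization.AtPrime q') q.primeCompl q'.primeCompl hM
  haveI : Module.Flat (Localization.AtPrime q) (Localization.AtPrime q') :=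
    IsLocalization.flat _ (q'.primeCompl.map (algebraMap C (Localization.AtPrime q)))
  haveI : IsScalarTower A (Localization.AtPrime q) (Localization.AtPrime q') :=
    IsScalarTower.of_algebraMap_eq (fun a => by
      rw [IsScalarTower.algebraMap_apply A C (Localization.AtPrime q'),
        IsScalarTower.algebraMap_apply A C (Localization.AtPrime q),
        ← IsScalarTower.algebraMap_apply C (Localization.AtPrime q) (Localization.AtPrime q')])
  exact Module.Flat.trans A (Localization.AtPrime q) (Localization.AtPrime q')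

theorem flat_localRingHom_of_le {A C : Type u} [CommRing A] [CommRing C] (φ : A →+* C)
    (q q' : Ideal C) [q.IsPrime] [q'.IsPrime] (hle : q' ≤ q)
    (h : (Localization.localRingHom (q.comap φ) q φ rfl).Flat) :
    (Localization.localRingHom (q'.comap φ) q' φ rfl).Flat := by
  algebraize [φ]
  have h1 : Module.Flat A (Localization.AtPrime q) := by
    algebraize_only [Localization.localRingHom (Ideal.comap φ q) q φ rfl]
    have : IsScalarTower A (Localization.AtPrime (Ideal.comap φ q)) (Localization.AtPrime q) :=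
      .of_algebraMap_eq fun x ↦ (Localization.localRingHom_to_map _ _ _ rfl x).symm
    have h' : Module.Flat (Localization.AtPrime (Ideal.comap φ q)) (Localization.AtPrime q) := h
    exact Module.Flat.trans A (Localization.AtPrime <| Ideal.comap φ q) (Localization.AtPrime q)
  have h2 : Module.Flat A (Localization.AtPrime q') := flat_localization_of_le q q' hle h1
  algebraize_only [Localization.localRingHom (Ideal.comap φ q') q' φ rfl]
  have : IsScalarTower A (Localization.AtPrime (Ideal.comap φ q')) (Localization.AtPrime q') :=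
    .of_algebraMap_eq fun x ↦ (Localization.localRingHom_to_map _ _ _ rfl x).symm
  show Module.Flat (Localization.AtPrime (Ideal.comap φ q')) (Localization.AtPrime q')
  exact (Module.flat_iff_of_isLocalization (Localization.AtPrime (Ideal.comap φ q'))
    (Ideal.comap φ q').primeCompl _).mpr h2

end RingFlat

section FlatAt
variable {X Y : Scheme.{u}} (f : X ⟶ Y) [LocallyOfFiniteType f]

/-- flatness at a point: generizations of the image lift to generizations whose residual
transcendence degree does not drop -/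
theorem exists_generization_tr_ge_of_flat_at (x : X) (hfl : (f.stalkMap x).hom.Flat) (y' : Y)
    (hy' : y' ⤳ f x) : ∃ ξ : X, ξ ⤳ x ∧ f ξ = y' ∧ tr f x ≤ tr f ξ := by
  obtain ⟨A, _, _, _, c, hcs, hcη⟩ := exists_valuationRing_of_specializes (f x) y' hy'
  obtain ⟨w, hw1, hw2, hw3⟩ := exists_tr_snd_ge f c x (IsLocalRing.closedPoint A) hcs.symm
  have hsp : (⊥ : PrimeSpectrum A) ⤳ (pullback.snd f c) w := by
    rw [hw2, ← PrimeSpectrum.le_iff_specializes]
    exact bot_le
  have hflw : ((pullback.snd f c).stalkMap w).hom.Flat :=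
    Groth.Agent.Helper3.FibStalk.flat_stalkMap_of_isPullback (IsPullback.of_hasPullback f c) w
      (Groth.Agent.Helper3.FibStalk.flat_stalkMap_congr f hw1.symm hfl)
  obtain ⟨ξ', hξ'sp, hξ'η⟩ := exists_generization_of_flat_stalkMap (pullback.snd f c) w hflw _ hsp
  have h1 : tr (pullback.snd f c) w ≤ tr (pullback.snd f c) ξ' :=
    tr_le_tr_of_dvd_total (pullback.snd f c) (isAffineOpen_top _) (dvd_total_Γ_Spec A) ξ' w hξ'sp
      trivial
  have h2 := tr_snd_le f c ξ'
  refine ⟨pullback.fst f c ξ', ?_, ?_, ?_⟩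
  · rw [← hw1]
    exact hξ'sp.map (pullback.fst f c).continuous
  · rw [← Scheme.Hom.comp_apply, pullback.condition, Scheme.Hom.comp_apply, hξ'η, hcη]
  · omega

/-- flatness at a point passes to generizations -/
theorem flat_stalkMap_of_specializes (x z : X) (hsp : z ⤳ x) (hfl : (f.stalkMap x).hom.Flat) :
    (f.stalkMap z).hom.Flat := by
  obtain ⟨V, hV, hsV, -⟩ := exists_isAffineOpen_mem_and_subset (U := (⊤ : Y.Opens)) (x := f x)
    trivial
  obtain ⟨U, hU, hxU, hUV⟩ := exists_isAffineOpen_mem_and_subset (U := f ⁻¹ᵁ V) (x := x) hsV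
  have hzU : z ∈ U := hsp.mem_open U.2 hxU
  rw [Groth.Agent.Lib.Helper4.RelEffCartierFlat1.flat_stalkMap_iff f V hV U hU hUV hxU] at hfl
  rw [Groth.Agent.Lib.Helper4.RelEffCartierFlat1.flat_stalkMap_iff f V hV U hU hUV hzU]
  exact flat_localRingHom_of_le _ _ _
    ((Groth.Agent.Lib.Helper4.RadBir3.specializes_iff_primeIdealOf_le hU ⟨z, hzU⟩ ⟨x, hxU⟩).mp hsp)
    hfl

/-- the local fibre dimension of a composite whose first morphism is flat at the point -/
theorem fibreDimAt_comp_ge_of_flat_at {Z : Scheme.{u}} (g : Y ⟶ Z) [LocallyOfFiniteType g] (x : X)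
    (hfl : (f.stalkMap x).hom.Flat) :
    FlatMor.fibreDimAt f x + FlatMor.fibreDimAt g (f.base x) ≤ FlatMor.fibreDimAt (f ≫ g) x := by
  obtain ⟨z₁, hz₁, hz₁sp, -, ha⟩ := exists_fibreMax_tr_eq f x
  obtain ⟨y₁, hy₁, hy₁sp, -, hb⟩ := exists_fibreMax_tr_eq g (f x)
  have hb' : FlatMor.fibreDimAt g (f.base x) = ((tr g y₁ : ℕ) : WithBot ℕ∞) := hb
  rw [ha, hb']
  obtain ⟨ξ, hξsp, hξf, hξtr⟩ := exists_generization_tr_ge_of_flat_at f z₁
    (flat_stalkMap_of_specializes f x z₁ hz₁sp hfl) y₁ (by rw [hz₁]; exact hy₁sp)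
  have h1 := (tr_le_fibreDimAt' (f ≫ g) ξ).trans
    (fibreDimAt_mono_of_specializes (f ≫ g) ξ x (hξsp.trans hz₁sp))
  rw [Groth.Agent.Lib.Helper4.PropDim1.tr_comp, hξf] at h1
  refine le_trans ?_ h1
  have : tr f z₁ + tr g y₁ ≤ tr g y₁ + tr f ξ := by omega
  exact_mod_cast this

theorem S9354_main {S : Scheme.{u}} (g : Y ⟶ S) [LocallyOfFiniteType g] (x : X) :
    FlatMor.fibreDimAt (f ≫ g) x ≤ FlatMor.fibreDimAt f x + FlatMor.fibreDimAt g (f.base x) ∧
      ((f.stalkMap x).hom.Flat →
        FlatMor.fibreDimAt (f ≫ g) x =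
          FlatMor.fibreDimAt f x + FlatMor.fibreDimAt g (f.base x)) :=
  ⟨fibreDimAt_comp_le f g x, fun hfl =>
    le_antisymm (fibreDimAt_comp_le f g x) (fibreDimAt_comp_ge_of_flat_at f g x hfl)⟩

end FlatAt

end Groth.Agent.Helper2.FibDim
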