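import Mathlib
import Groth.Prelude.Def_Flat
import Groth.Agent.Lib.Helper2.FibDim.LowerSemi

/-!
# Level sets of the fibre dimension are locally constructible (helper2)
-/

set_option autoImplicit false
set_option linter.style.haveILetI false
set_option linter.unusedSectionVars false
set_option backward.isDefEq.respectTransparency.types false
universe u

namespace Groth.Agent.Helper2.FibDim

open CategoryTheory CategoryTheory.Limits AlgebraicGeometry TensorProduct TopologicalSpace Topology

theorem isLocallyConstructible_compl {T : Type*} [TopologicalSpace T] {s : Set T}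
    (hs : IsLocallyConstructible s) : IsLocallyConstructible sᶜ := by
  intro x
  obtain ⟨U, hxU, hU, hsU⟩ := hs x
  refine ⟨U, hxU, hU, ?_⟩
  have h := hsU.compl
  exact h

/-- the local fibre dimension is bounded on quasi-compact subsets -/
theorem exists_bound_fibreDimAt_of_isCompact {X S : Scheme.{u}} (f : X ⟶ S)
    [LocallyOfFiniteType f] (K : Set X) (hK : IsCompact K) :
    ∃ M : ℕ, ∀ x ∈ K, FlatMor.fibreDimAt f x ≤ (M : WithBot ℕ∞) := by
  obtain ⟨M, hM⟩ := hK.elim_directed_cover
    (fun m : ℕ => {x : X | FlatMor.fibreDimAt f x ≤ (m : WithBot ℕ∞)})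
    (fun m => Groth.Agent.Lib.Helper4.Chev2.S0402_main f m)
    (by
      intro x _
      obtain ⟨d, hd⟩ := Groth.Agent.Lib.Helper4.FibDimComp1.exists_fibreDimAt_nat f x
      exact Set.mem_iUnion.mpr ⟨d, hd.le⟩)
    (by
      intro a b
      refine ⟨max a b, ?_, ?_⟩
      · intro x hx
        have hx' : FlatMor.fibreDimAt f x ≤ (a : WithBot ℕ∞) := hx
        refine le_trans hx' ?_
        exact_mod_cast le_max_left a b
      · intro x hx
        have hx' : FlatMor.fibreDimAt f x ≤ (b : WithBot ℕ∞) := hx
        refine le_trans hx' ?_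
        exact_mod_cast le_max_right a b)
  exact ⟨M, fun x hx => hM hx⟩

/-- the fibres of a quasi-compact morphism locally of finite type are finite dimensional -/
theorem dim_fiber_ne_top {X S : Scheme.{u}} (f : X ⟶ S) [LocallyOfFiniteType f] [QuasiCompact f]
    (y : S) : topologicalKrullDim (f.fiber y) ≠ ⊤ := by
  obtain ⟨V, hV, hyV, -⟩ := exists_isAffineOpen_mem_and_subset (U := (⊤ : S.Opens)) (x := y)
    trivial
  have hK : IsCompact (f ⁻¹' (V : Set S)) :=
    QuasiCompact.isCompact_preimage _ V.2 hV.isCompact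
  obtain ⟨M, hM⟩ := exists_bound_fibreDimAt_of_isCompact f _ hK
  have h1 : ¬ ((M + 1 : ℕ) : WithBot ℕ∞) ≤ topologicalKrullDim (f.fiber y) := by
    intro h
    have h2 : y ∈ {y : S | ((M + 1 : ℕ) : WithBot ℕ∞) ≤ topologicalKrullDim ↥(f.fiber y)} := h
    rw [Groth.Agent.Lib.Helper4.Chev3.setOf_le_dim_fiber_eq] at h2
    obtain ⟨x, hx, rfl⟩ := h2
    exact (not_le_iff_succ_le _ M).mpr hx (hM x hyV)
  have h3 : topologicalKrullDim (f.fiber y) ≤ (M : WithBot ℕ∞) := by
    by_contra h
    exact h1 ((not_le_iff_succ_le _ M).mp h)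
  intro h
  rw [h] at h3
  have h4 : ((⊤ : ℕ∞) : WithBot ℕ∞) ≤ ((M : ℕ∞) : WithBot ℕ∞) := h3
  rw [WithBot.coe_le_coe] at h4
  exact absurd h4 (by simp)

/-- the locus where the fibre dimension is at least `k` is locally constructible -/
theorem isLocallyConstructible_setOf_le_dim_fiber {X Y : Scheme.{u}} (f : X ⟶ Y)
    [LocallyOfFinitePresentation f] [QuasiCompact f] (k : ℕ) :
    IsLocallyConstructible {y : Y | (k : WithBot ℕ∞) ≤ topologicalKrullDim ↥(f.fiber y)} := by
  rw [Groth.Agent.Lib.Helper4.Chev3.setOf_le_dim_fiber_eq]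
  apply Scheme.Hom.isLocallyConstructible_image
  cases k with
  | zero =>
    have huniv : {x : X | ((0 : ℕ) : WithBot ℕ∞) ≤ FlatMor.fibreDimAt f x} = Set.univ := by
      ext x
      simp only [Set.mem_ofPred_eq, Set.mem_univ, iff_true]
      obtain ⟨d, hd⟩ := Groth.Agent.Lib.Helper4.FibDimComp1.exists_fibreDimAt_nat f x
      rw [hd]
      exact_mod_cast Nat.zero_le d
    rw [huniv]
    exact IsLocallyConstructible.univ
  | succ m =>
    have h : {x : X | ((m + 1 : ℕ) : WithBot ℕ∞) ≤ FlatMor.fibreDimAt f x} =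
        {x : X | FlatMor.fibreDimAt f x ≤ (m : WithBot ℕ∞)}ᶜ := by
      ext x
      simp only [Set.mem_ofPred_eq, Set.mem_compl_iff]
      exact (not_le_iff_succ_le _ m).symm
    rw [h]
    apply isLocallyConstructible_compl
    exact IsRetrocompact.isLocallyConstructible
      (Groth.Agent.Lib.Helper4.Chev2.S0402_main f m) (S9355_main f m)

/-- **S1333** -/
theorem S1333_main {X Y : Scheme.{u}} (f : X ⟶ Y) [LocallyOfFinitePresentation f]
    [QuasiCompact f] (n : WithBot ℕ∞) :
    IsLocallyConstructible {y : ↑Y | topologicalKrullDim ↑(f.fiber y) = n} := by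
  induction n using WithBot.recBotCoe with
  | bot =>
    have h : {y : ↑Y | topologicalKrullDim ↑(f.fiber y) = ⊥} =
        {y : Y | ((0 : ℕ) : WithBot ℕ∞) ≤ topologicalKrullDim ↥(f.fiber y)}ᶜ := by
      ext y
      simp only [Set.mem_ofPred_eq, Set.mem_compl_iff]
      constructor
      · intro h1 h2
        rw [h1] at h2
        simp at h2
      · intro h1
        by_contra h2
        apply h1
        obtain ⟨b, hb⟩ := WithBot.ne_bot_iff_exists.mp h2
        rw [← hb]
        have h0 : (0 : ℕ∞) ≤ b := zero_le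
        exact_mod_cast h0
    rw [h]
    exact isLocallyConstructible_compl (isLocallyConstructible_setOf_le_dim_fiber f 0)
  | coe b =>
    induction b using ENat.recTopCoe with
    | top =>
      have h : {y : ↑Y | topologicalKrullDim ↑(f.fiber y) = ((⊤ : ℕ∞) : WithBot ℕ∞)} = ∅ := by
        ext y
        simp only [Set.mem_ofPred_eq, Set.mem_empty_iff_false, iff_false]
        exact dim_fiber_ne_top f y
      rw [h]
      exact IsLocallyConstructible.empty
    | coe m =>
      have h : {y : ↑Y | topologicalKrullDim ↑(f.fiber y) = ((m : ℕ∞) : WithBot ℕ∞)} =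
          {y : Y | ((m : ℕ) : WithBot ℕ∞) ≤ topologicalKrullDim ↥(f.fiber y)} ∩
          {y : Y | ((m + 1 : ℕ) : WithBot ℕ∞) ≤ topologicalKrullDim ↥(f.fiber y)}ᶜ := by
        ext y
        simp only [Set.mem_ofPred_eq, Set.mem_inter_iff, Set.mem_compl_iff]
        rw [← not_le_iff_succ_le, not_not]
        constructor
        · intro h1
          rw [h1]
          exact ⟨le_refl _, le_refl _⟩
        · rintro ⟨h1, h2⟩
          exact le_antisymm h2 h1
      rw [h]
      exact (isLocallyConstructible_setOf_le_dim_fiber f m).inter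
        (isLocallyConstructible_compl (isLocallyConstructible_setOf_le_dim_fiber f (m + 1)))

end Groth.Agent.Helper2.FibDim
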