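import Mathlib
import Groth.Prelude.Def_Flat
import Groth.Agent.Lib.Helper4.FibDimComp1
import Groth.Agent.Lib.Helper4.Equi8
import Groth.Agent.Lib.Helper4.DimIneq4

/-!
# Fibres over a one-dimensional base: components have the dimension of the generic fibre (helper2)
-/

set_option autoImplicit false
set_option linter.style.haveILetI false
set_option linter.unusedSectionVars false
set_option backward.isDefEq.respectTransparency.types false
universe u

namespace Groth.Agent.Helper2.FibDim

open CategoryTheory CategoryTheory.Limits AlgebraicGeometry TensorProduct TopologicalSpace Topology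
open Groth.Agent.Lib.Helper4.FibDim1 Groth.Agent.Lib.Helper4.FibDim4
  Groth.Agent.Lib.Helper4.Val1 Groth.Agent.Lib.Helper4.UnivOpen1
  Groth.Agent.Lib.Helper4.PropDim1 Groth.Agent.Lib.Helper4.Aff2
  Groth.Agent.Lib.Helper4.Equi10 Groth.Agent.Lib.Helper4.LocNoethFib1
  Groth.Agent.Lib.Helper4.FlatDimK1 Groth.Agent.Lib.Helper4.Equi8

/-- **S4702** -/
theorem S4702_main {X Y : Scheme.{u}} (f : X ⟶ Y) [IsLocallyNoetherian Y]
    [IrreducibleSpace Y] [IrreducibleSpace X] (hY : topologicalKrullDim Y = 1)
    [LocallyOfFiniteType f]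
    (hf : DenseRange f.base) (y : Y)
    (Z : Set ↥(f.fiber y)) (hZ : Z ∈ irreducibleComponents ↥(f.fiber y)) :
    topologicalKrullDim Z = topologicalKrullDim ↥(f.fiber (genericPoint Y)) := by
  have hY' : ∀ y : Y, ringKrullDim (Y.presheaf.stalk y) ≤ 1 := fun y =>
    hY ▸ Groth.Agent.Lib.Helper4.DimIneq4.ringKrullDim_stalk_le Y y
  have hle : ∀ z : X, tr f z ≤ tr f (genericPoint X) := by
    intro z
    by_cases hz : z = genericPoint X
    · rw [hz]
    · exact tr_le_tr_generic_of_dim_le_one f hY' z hz
  have hgen : f (genericPoint X) = genericPoint Y := by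
    have h1 : IsGenericPoint (f (genericPoint X)) (closure (f '' Set.univ)) :=
      (genericPoint_spec X).image f.continuous
    rw [Set.image_univ, hf.closure_range] at h1
    exact ((genericPoint_spec _).eq h1).symm
  obtain ⟨w, hw, rfl⟩ := exists_isMax_closure_eq (f.fiber y) Z hZ
  rw [dim_closure_of_field (Y.residueField y) (f.fiberToSpecResidueField y) w, tr_fiber]
  obtain ⟨z, hz⟩ : ∃ z : X, z = f.fiberι y w := ⟨_, rfl⟩
  rw [← hz]
  have hmax : ∀ z' : X, f z' = f z → z' ⤳ z → z' = z := by
    rw [hz]
    exact fibreMax_of_fiber_max f _ w (eq_of_isMax_of_specializes w hw)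
  have h2 := tr_le_fibreDimAt_of_specializes_nn f z (genericPoint X) (genericPoint_specializes _)
  rw [fibreDimAt_eq_tr_of_max f z hmax] at h2
  have h3 : tr f (genericPoint X) ≤ tr f z := by exact_mod_cast h2
  rw [dim_fiber_eq_of_tr f _ (tr f (genericPoint X)) (fun z _ => hle z) (genericPoint X) hgen rfl]
  have h4 : tr f z = tr f (genericPoint X) := le_antisymm (hle z) h3
  rw [h4]

end Groth.Agent.Helper2.FibDim
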