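import Mathlib
import Groth.Prelude.Def_Flat
import Groth.Agent.Lib.Helper4.FibDimComp1
import Groth.Agent.Lib.Helper7.NearGen.Main
import Groth.Agent.Lib.Helper2.FibDim.LowerSemi

/-!
# Generic fibre dimension spreads out to a nonempty open (S1332) (helper2)
-/

set_option autoImplicit false
set_option linter.style.haveILetI false
set_option linter.unusedSectionVars false
set_option backward.isDefEq.respectTransparency.types false
universe u

namespace Groth.Agent.Helper2.FibDim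

open CategoryTheory CategoryTheory.Limits AlgebraicGeometry TensorProduct TopologicalSpace Topology

/-- upper bound part: over a neighbourhood of the generic point the fibres have dimension at most
that of the generic fibre -/
theorem exists_open_dim_fiber_lt {X Y : Scheme.{u}} (f : X ⟶ Y) [IrreducibleSpace ↑Y]
    [LocallyOfFiniteType f] [QuasiCompact f] (n : ℕ)
    (h : ¬ ((n : ℕ) : WithBot ℕ∞) ≤ topologicalKrullDim ↑(f.fiber (genericPoint ↑Y))) :
    ∃ V : Y.Opens, genericPoint ↑Y ∈ V ∧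
      ∀ y ∈ V, ¬ ((n : ℕ) : WithBot ℕ∞) ≤ topologicalKrullDim ↑(f.fiber y) := by
  obtain ⟨T, hTdef⟩ : ∃ T : Set X,
      T = {x : X | ((n : ℕ) : WithBot ℕ∞) ≤ FlatMor.fibreDimAt f x} := ⟨_, rfl⟩
  have hTcl : IsClosed T := by
    rw [hTdef]
    exact Groth.Agent.Lib.Helper4.Chev3.isClosed_setOf_le_fibreDimAt f _
  have hTη : ∀ x ∈ T, f x ≠ genericPoint ↑Y := by
    intro x hx hfx
    rw [hTdef] at hx
    apply h
    rw [← hfx]
    exact le_trans hx (Groth.Agent.Lib.Helper4.Chev3.fibreDimAt_le_dim_fiber f x)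
  obtain ⟨V, hηV, hV⟩ := Groth.Agent.Helper7.NearGen.exists_open_of_closed f T hTcl hTη
  refine ⟨V, hηV, fun y hy hle => ?_⟩
  have h1 : y ∈ {y : Y | (n : WithBot ℕ∞) ≤ topologicalKrullDim ↥(f.fiber y)} := hle
  rw [Groth.Agent.Lib.Helper4.Chev3.setOf_le_dim_fiber_eq] at h1
  obtain ⟨x, hx, rfl⟩ := h1
  exact hV x (by rw [hTdef]; exact hx) hy

/-- lower bound part -/
theorem exists_open_le_dim_fiber {X Y : Scheme.{u}} (f : X ⟶ Y) [IrreducibleSpace ↑Y]
    [LocallyOfFiniteType f] (n : ℕ)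
    (h : ((n : ℕ) : WithBot ℕ∞) ≤ topologicalKrullDim ↑(f.fiber (genericPoint ↑Y))) :
    ∃ V : Y.Opens, genericPoint ↑Y ∈ V ∧
      ∀ y ∈ V, ((n : ℕ) : WithBot ℕ∞) ≤ topologicalKrullDim ↑(f.fiber y) := by
  have h1 : genericPoint ↑Y ∈ {y : Y | (n : WithBot ℕ∞) ≤ topologicalKrullDim ↥(f.fiber y)} := h
  rw [Groth.Agent.Lib.Helper4.Chev3.setOf_le_dim_fiber_eq] at h1
  obtain ⟨x, hx, hfx⟩ := h1
  obtain ⟨z, hz, -, -, hztr⟩ := Groth.Agent.Lib.Helper4.FibDimComp1.exists_fibreMax_tr_eq f x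
  have hx' : ((n : ℕ) : WithBot ℕ∞) ≤ FlatMor.fibreDimAt f x := hx
  rw [hztr] at hx'
  obtain ⟨V, hηV, hV⟩ := Groth.Agent.Helper7.NearGen.exists_open_of_locallyClosed f
    (closure {z}) isClosed_closure ⊤ z (subset_closure rfl) trivial (hz.trans hfx)
  refine ⟨V, hηV, fun y hy => ?_⟩
  obtain ⟨x', hx'cl, -, rfl⟩ := hV y hy
  have hsp : z ⤳ x' := specializes_iff_mem_closure.mpr hx'cl
  exact le_trans hx' (le_trans
    (Groth.Agent.Lib.Helper4.Equi10.tr_le_fibreDimAt_of_specializes_nn f x' z hsp)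
    (Groth.Agent.Lib.Helper4.Chev3.fibreDimAt_le_dim_fiber f x'))

theorem S1332_main {X Y : Scheme.{u}} (f : X ⟶ Y) [IrreducibleSpace ↑Y] [LocallyOfFiniteType f]
    [QuasiCompact f] (n : ℕ)
    (h : topologicalKrullDim ↑(f.fiber (genericPoint ↑Y)) = n) :
    ∃ V : Y.Opens, (V : Set ↑Y).Nonempty ∧ ∀ y ∈ V, topologicalKrullDim ↑(f.fiber y) = n := by
  have h1 : ((n : ℕ) : WithBot ℕ∞) ≤ topologicalKrullDim ↑(f.fiber (genericPoint ↑Y)) := by
    rw [h]
  have h2 : ¬ (((n + 1 : ℕ) : ℕ) : WithBot ℕ∞) ≤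
      topologicalKrullDim ↑(f.fiber (genericPoint ↑Y)) := by
    rw [h]
    intro hle
    have : (n + 1 : ℕ) ≤ n := by exact_mod_cast hle
    omega
  obtain ⟨V₁, hη₁, hV₁⟩ := exists_open_le_dim_fiber f n h1
  obtain ⟨V₂, hη₂, hV₂⟩ := exists_open_dim_fiber_lt f (n + 1) h2
  refine ⟨V₁ ⊓ V₂, ⟨genericPoint ↑Y, hη₁, hη₂⟩, fun y hy => ?_⟩
  have ha := hV₁ y hy.1
  have hb := hV₂ y hy.2
  apply le_antisymm _ ha
  by_contra hcon
  apply hb
  have := (not_le_iff_succ_le (topologicalKrullDim ↑(f.fiber y)) n).mp hcon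
  exact_mod_cast this

end Groth.Agent.Helper2.FibDim
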