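import Mathlib
import Groth.Prelude.Def_Flat
import Groth.Agent.Lib.Helper2.FibDim.Constr
import Groth.Agent.Lib.Helper2.Synt.RelDescentSch

/-!
# Noetherian approximation preserving the fibre dimension (helper2)
-/

set_option autoImplicit false
set_option linter.style.haveILetI false
set_option linter.unusedSectionVars false
set_option backward.isDefEq.respectTransparency.types false
universe u

namespace Groth.Agent.Helper2.FibDim

open CategoryTheory CategoryTheory.Limits AlgebraicGeometry TensorProduct TopologicalSpace Topology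
open PrimeSpectrum

/-- a base change isomorphism of algebras gives a pullback square of spectra -/
theorem isPullback_of_tensorEquiv (R A M B : Type u) [CommRing R] [CommRing A] [CommRing M]
    [CommRing B] [Algebra R A] [Algebra R M] [Algebra A B] (e : A ⊗[R] M ≃ₐ[A] B) :
    ∃ φ : M →+* B,
      IsPullback (Spec.map (CommRingCat.ofHom φ))
        (Spec.map (CommRingCat.ofHom (algebraMap A B)))
        (Spec.map (CommRingCat.ofHom (algebraMap R M)))
        (Spec.map (CommRingCat.ofHom (algebraMap R A))) := by
  have hpo := CommRingCat.isPushout_tensorProduct R A M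
  have hpo' : IsPushout (CommRingCat.ofHom (algebraMap R A))
      (CommRingCat.ofHom (algebraMap R M))
      (CommRingCat.ofHom (algebraMap A B))
      (CommRingCat.ofHom (e.toRingEquiv.toRingHom.comp
        (Algebra.TensorProduct.includeRight (R := R) (A := A) (B := M)).toRingHom)) := by
    refine hpo.of_iso (Iso.refl _) (Iso.refl _) (Iso.refl _) e.toRingEquiv.toCommRingCatIso
      (by simp) (by simp) ?_ ?_
    · ext x
      simp only [Iso.refl_hom, Category.id_comp, CommRingCat.hom_comp, CommRingCat.hom_ofHom,
        RingHom.comp_apply, RingEquiv.toCommRingCatIso_hom]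
      exact e.commutes x
    · rw [Iso.refl_hom, Category.id_comp]
      rfl
  exact ⟨_, (isPullback_SpecMap_of_isPushout _ _ _ _ hpo').flip⟩

/-- a constructible set with empty preimage in the spectrum of an algebra already has empty
preimage in the spectrum of a finitely generated subalgebra -/
theorem exists_finset_preimage_empty (R₁ A : Type u) [CommRing R₁] [CommRing A] [Algebra R₁ A]
    (C : ConstructibleSetData R₁)
    (h : comap (algebraMap R₁ A) ⁻¹' C.toSet = ∅) :
    ∃ s : Finset A,
      comap (algebraMap R₁ (Algebra.adjoin R₁ (s : Set A))) ⁻¹' C.toSet = ∅ := by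
  classical
  have key : ∀ c ∈ C, ∃ (N : ℕ) (k : Fin c.n → A),
      ∑ j, k j * algebraMap R₁ A (c.g j) = (algebraMap R₁ A c.f) ^ N := by
    intro c hc
    have h1 : (c.map (algebraMap R₁ A)).toSet = ∅ := by
      rw [BasicConstructibleSetData.toSet_map]
      apply Set.eq_empty_of_subset_empty
      rw [← h]
      apply Set.preimage_mono
      intro p hp
      exact Set.mem_biUnion hc hp
    have h2 : zeroLocus (Set.range (algebraMap R₁ A ∘ c.g)) ⊆
        zeroLocus {algebraMap R₁ A c.f} := by
      intro p hp
      by_contra hp'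
      have : p ∈ (c.map (algebraMap R₁ A)).toSet := ⟨hp, hp'⟩
      rw [h1] at this
      exact this
    rw [← zeroLocus_span (Set.range _), ← zeroLocus_span {_}, zeroLocus_subset_zeroLocus_iff,
      Ideal.span_le, Set.singleton_subset_iff] at h2
    obtain ⟨N, hN⟩ := h2
    rw [Ideal.mem_span_range_iff_exists_fun] at hN
    obtain ⟨k, hk⟩ := hN
    exact ⟨N, k, hk⟩
  choose! N k hk using key
  refine ⟨C.biUnion fun c => Finset.image (k c) Finset.univ, ?_⟩
  set s : Finset A := C.biUnion fun c => Finset.image (k c) Finset.univ with hs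
  apply Set.eq_empty_of_forall_notMem
  intro p₂ hp₂
  obtain ⟨c, hc, hcp⟩ := Set.mem_iUnion₂.mp hp₂
  have hmem : ∀ j, k c j ∈ Algebra.adjoin R₁ (s : Set A) := by
    intro j
    apply Algebra.subset_adjoin
    rw [hs]
    simp only [Finset.coe_biUnion, Finset.coe_image, Finset.coe_univ, Set.image_univ,
      Set.mem_iUnion, Set.mem_range]
    exact ⟨c, hc, j, rfl⟩
  have heq : ∑ j, (⟨k c j, hmem j⟩ : Algebra.adjoin R₁ (s : Set A)) *
      algebraMap R₁ (Algebra.adjoin R₁ (s : Set A)) (c.g j) =
      (algebraMap R₁ (Algebra.adjoin R₁ (s : Set A)) c.f) ^ N c := by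
    apply Subtype.ext
    have h5 : ((∑ j, (⟨k c j, hmem j⟩ : Algebra.adjoin R₁ (s : Set A)) *
        algebraMap R₁ (Algebra.adjoin R₁ (s : Set A)) (c.g j) :
          Algebra.adjoin R₁ (s : Set A)) : A) = ∑ j, k c j * algebraMap R₁ A (c.g j) := by
      rw [AddSubmonoidClass.coe_finsetSum]
      rfl
    rw [h5, hk c hc]
    rfl
  obtain ⟨hcp1, hcp2⟩ := hcp
  apply hcp2
  have h3 : (algebraMap R₁ (Algebra.adjoin R₁ (s : Set A)) c.f) ^ N c ∈ p₂.asIdeal := by
    rw [← heq]
    apply Ideal.sum_mem
    intro j _
    apply Ideal.mul_mem_left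
    exact hcp1 ⟨j, rfl⟩
  have h4 := p₂.isPrime.mem_of_pow_mem _ h3
  simpa using h4

end Groth.Agent.Helper2.FibDim
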