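import Mathlib
import Groth.Prelude.Def_Flat
import Groth.Agent.Lib.Helper2.FibDim.NoethApprox

/-!
# Noetherian approximation preserving the fibre dimension: main theorem (helper2)
-/

set_option autoImplicit false
set_option linter.style.haveILetI false
set_option linter.unusedSectionVars false
set_option backward.isDefEq.respectTransparency.types false
universe u

namespace Groth.Agent.Helper2.FibDim

open CategoryTheory CategoryTheory.Limits AlgebraicGeometry TensorProduct TopologicalSpace Topology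
open PrimeSpectrum

/-- a finitely presented algebra has a model over a finite type `ℤ`-algebra -/
theorem exists_model (A B : Type u) [CommRing A] [CommRing B] [Algebra A B]
    [Algebra.FinitePresentation A B] :
    ∃ (R₁ B₁ : Type u) (_ : CommRing R₁) (_ : CommRing B₁) (_ : Algebra R₁ A)
      (_ : Algebra R₁ B₁), Algebra.FiniteType ℤ R₁ ∧ Algebra.FinitePresentation R₁ B₁ ∧
      Nonempty (A ⊗[R₁] B₁ ≃ₐ[A] B) := by
  obtain ⟨n, m, ⟨P⟩⟩ := Algebra.Presentation.exists_presentation_fin A B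
  exact ⟨P.Core, P.ModelOfHasCoeffs P.Core, inferInstance, inferInstance, inferInstance,
    inferInstance, inferInstance, inferInstance, ⟨P.tensorModelOfHasCoeffsEquiv P.Core⟩⟩

/-- Noetherian approximation preserving the fibre dimension, for spectra -/
theorem exists_model_fibre_dim (A B : Type u) [CommRing A] [CommRing B] [Algebra A B]
    [Algebra.FinitePresentation A B] (d : WithBot ℕ∞)
    (hd : ∀ p : ↥(Spec (CommRingCat.of A)),
      topologicalKrullDim ↥((Spec.map (CommRingCat.ofHom (algebraMap A B))).fiber p) = d) :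
    ∃ (R₂ B₂ : Type u) (_ : CommRing R₂) (_ : CommRing B₂) (_ : Algebra R₂ A)
      (_ : Algebra R₂ B₂), Algebra.FiniteType ℤ R₂ ∧ Algebra.FinitePresentation R₂ B₂ ∧
      (∃ φ : B₂ →+* B,
        IsPullback (Spec.map (CommRingCat.ofHom φ))
          (Spec.map (CommRingCat.ofHom (algebraMap A B)))
          (Spec.map (CommRingCat.ofHom (algebraMap R₂ B₂)))
          (Spec.map (CommRingCat.ofHom (algebraMap R₂ A)))) ∧
      ∀ p₂ : ↥(Spec (CommRingCat.of R₂)),
        topologicalKrullDim ↥((Spec.map (CommRingCat.ofHom (algebraMap R₂ B₂))).fiber p₂) = d := by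
  obtain ⟨R₁, B₁, _, _, _, _, hft1, hfp1, ⟨e₁⟩⟩ := exists_model A B
  haveI := hft1
  haveI := hfp1
  haveI : Algebra.FiniteType R₁ B₁ := inferInstance
  obtain ⟨φ₁, hpb₁⟩ := isPullback_of_tensorEquiv R₁ A B₁ B e₁
  obtain ⟨f₁, hf₁⟩ : ∃ f₁ : Spec (CommRingCat.of B₁) ⟶ Spec (CommRingCat.of R₁),
      f₁ = Spec.map (CommRingCat.ofHom (algebraMap R₁ B₁)) := ⟨_, rfl⟩
  rw [← hf₁] at hpb₁
  haveI : LocallyOfFinitePresentation f₁ := by
    rw [hf₁, HasRingHomProperty.Spec_iff (P := @LocallyOfFinitePresentation)]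
    rw [CommRingCat.hom_ofHom, RingHom.finitePresentation_algebraMap]
    infer_instance
  haveI : QuasiCompact f₁ := by
    rw [hf₁]
    infer_instance
  haveI : LocallyOfFiniteType f₁ := inferInstance
  -- the constructible set
  have hE : IsLocallyConstructible {s₁ : ↥(Spec (CommRingCat.of R₁)) |
      topologicalKrullDim ↥(f₁.fiber s₁) = d} := S1333_main f₁ d
  have hE' : IsConstructible ({s₁ : PrimeSpectrum R₁ |
      topologicalKrullDim ↥(f₁.fiber s₁) = d}ᶜ) := by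
    have h1 : IsLocallyConstructible ({s₁ : PrimeSpectrum R₁ |
        topologicalKrullDim ↥(f₁.fiber s₁) = d}ᶜ) := isLocallyConstructible_compl hE
    exact h1.isConstructible
  obtain ⟨C, hC⟩ := exists_constructibleSetData_iff.mpr hE'
  have hempty : comap (algebraMap R₁ A) ⁻¹' C.toSet = ∅ := by
    apply Set.eq_empty_of_forall_notMem
    intro p hp
    rw [Set.mem_preimage, hC] at hp
    apply hp
    have h2 := Groth.Agent.Lib.Helper4.FibDimBC1.S9777_main f₁ _ _ _ hpb₁ p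
    rw [hd p] at h2
    exact h2.symm
  obtain ⟨s, hs⟩ := exists_finset_preimage_empty R₁ A C hempty
  -- the second stage
  obtain ⟨R₂, hR₂⟩ : ∃ R₂ : Subalgebra R₁ A, R₂ = Algebra.adjoin R₁ (s : Set A) := ⟨_, rfl⟩
  rw [← hR₂] at hs
  have hfg : R₂.FG := hR₂ ▸ Subalgebra.fg_adjoin_finset s
  haveI hft2 : Algebra.FiniteType R₁ R₂ := (Subalgebra.fg_iff_finiteType R₂).mp hfg
  haveI hft2' : Algebra.FiniteType ℤ R₂ := Algebra.FiniteType.trans hft1 hft2
  let e₂ : A ⊗[R₂] (R₂ ⊗[R₁] B₁) ≃ₐ[A] B :=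
    (Algebra.TensorProduct.cancelBaseChange R₁ R₂ A A B₁).trans e₁
  obtain ⟨φ₂, hpb₂⟩ := isPullback_of_tensorEquiv R₂ A (R₂ ⊗[R₁] B₁) B e₂
  obtain ⟨φ₃, hpb₃⟩ := isPullback_of_tensorEquiv R₁ R₂ B₁ (R₂ ⊗[R₁] B₁) AlgEquiv.refl
  rw [← hf₁] at hpb₃
  refine ⟨R₂, R₂ ⊗[R₁] B₁, inferInstance, inferInstance, inferInstance, inferInstance, hft2',
    inferInstance, ⟨φ₂, hpb₂⟩, ?_⟩
  intro p₂
  have h3 := Groth.Agent.Lib.Helper4.FibDimBC1.S9777_main f₁ _ _ _ hpb₃ p₂
  rw [h3]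
  by_contra hne
  obtain ⟨q₂, hq₂⟩ : ∃ q₂ : PrimeSpectrum R₂, q₂ = p₂ := ⟨_, rfl⟩
  have h4 : comap (algebraMap R₁ R₂) q₂ ∈ C.toSet := by
    rw [hC, hq₂]
    exact hne
  have h5 : q₂ ∈ comap (algebraMap R₁ R₂) ⁻¹' C.toSet := h4
  rw [hs] at h5
  exact h5

end Groth.Agent.Helper2.FibDim

namespace Groth.Agent.Helper2.FibDim

open CategoryTheory CategoryTheory.Limits AlgebraicGeometry TensorProduct TopologicalSpace Topology

/-- **S1464** -/
theorem S1464_main {X S : Scheme.{u}} (f : X ⟶ S) [IsAffine X] [IsAffine S]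
    [LocallyOfFinitePresentation f] (d : ℕ)
    (hd : ∀ s : S, topologicalKrullDim ↑(f.fiber s) = d) :
    ∃ (X₀ S₀ : Scheme.{u}) (f₀ : X₀ ⟶ S₀) (g : S ⟶ S₀) (g' : X ⟶ X₀), IsAffine X₀ ∧ IsAffine S₀ ∧
      IsPullback g' f f₀ g ∧
      Algebra.FiniteType ℤ Γ(S₀, ⊤) ∧ LocallyOfFiniteType f₀ ∧
      ∀ s₀ : S₀, topologicalKrullDim ↑(f₀.fiber s₀) = d := by
  letI alg : Algebra Γ(S, ⊤) Γ(X, ⊤) := f.appTop.hom.toAlgebra
  haveI hfp : Algebra.FinitePresentation Γ(S, ⊤) Γ(X, ⊤) :=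
    (HasRingHomProperty.iff_of_isAffine (P := @LocallyOfFinitePresentation)).mp inferInstance
  have hmap : Spec.map (CommRingCat.ofHom (algebraMap Γ(S, ⊤) Γ(X, ⊤))) = Spec.map f.appTop := rfl
  have hsq : IsPullback X.isoSpec.hom f
      (Spec.map (CommRingCat.ofHom (algebraMap Γ(S, ⊤) Γ(X, ⊤)))) S.isoSpec.hom := by
    rw [hmap]
    exact IsPullback.of_horiz_isIso ⟨Scheme.isoSpec_hom_naturality f⟩
  haveI : LocallyOfFiniteType (Spec.map (CommRingCat.ofHom (algebraMap Γ(S, ⊤) Γ(X, ⊤)))) := by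
    rw [HasRingHomProperty.Spec_iff (P := @LocallyOfFiniteType)]
    rw [CommRingCat.hom_ofHom, RingHom.finiteType_algebraMap]
    infer_instance
  have hd' : ∀ p : ↥(Spec (CommRingCat.of Γ(S, ⊤))),
      topologicalKrullDim ↥((Spec.map (CommRingCat.ofHom
        (algebraMap Γ(S, ⊤) Γ(X, ⊤)))).fiber p) = (d : WithBot ℕ∞) := by
    intro p
    have h1 := Groth.Agent.Lib.Helper4.FibDimBC1.S9777_main _ _ _ _ hsq (S.isoSpec.inv p)
    have h2 : S.isoSpec.hom (S.isoSpec.inv p) = p := by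
      rw [← Scheme.Hom.comp_apply, Iso.inv_hom_id]
      rfl
    rw [h2] at h1
    rw [← h1]
    exact hd _
  obtain ⟨R₂, B₂, _, _, _, _, hft, hfp2, ⟨φ, hpb⟩, hdim⟩ :=
    exists_model_fibre_dim Γ(S, ⊤) Γ(X, ⊤) (d : WithBot ℕ∞) hd'
  haveI := hfp2
  refine ⟨Spec (CommRingCat.of B₂), Spec (CommRingCat.of R₂),
    Spec.map (CommRingCat.ofHom (algebraMap R₂ B₂)),
    S.isoSpec.hom ≫ Spec.map (CommRingCat.ofHom (algebraMap R₂ Γ(S, ⊤))),
    X.isoSpec.hom ≫ Spec.map (CommRingCat.ofHom φ), inferInstance, inferInstance,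
    hsq.paste_horiz hpb, Groth.Agent.Helper2.Synt.finiteType_int_Γ_Spec R₂ hft, ?_, hdim⟩
  rw [HasRingHomProperty.Spec_iff (P := @LocallyOfFiniteType)]
  rw [CommRingCat.hom_ofHom, RingHom.finiteType_algebraMap]
  infer_instance

end Groth.Agent.Helper2.FibDim
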