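import Mathlib
import Groth.Prelude.Def_Flat
import Groth.Agent.Lib.Helper4.FibDimComp1

/-!
# Fibres over a valuation ring: the components of the special fibre have the dimension of the
generic fibre (helper2)
-/

set_option autoImplicit false
set_option linter.style.haveILetI false
set_option linter.unusedSectionVars false
set_option backward.isDefEq.respectTransparency.types false
universe u

namespace Groth.Agent.Helper2.FibDim

open CategoryTheory CategoryTheory.Limits AlgebraicGeometry TensorProduct TopologicalSpace Topology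
open Groth.Agent.Lib.Helper4.FibDim1 Groth.Agent.Lib.Helper4.FibDim4
  Groth.Agent.Lib.Helper4.Val1 Groth.Agent.Lib.Helper4.UnivOpen1
  Groth.Agent.Lib.Helper4.PropDim1 Groth.Agent.Lib.Helper4.Aff2
  Groth.Agent.Lib.Helper4.Equi10 Groth.Agent.Lib.Helper4.LocNoethFib1
  Groth.Agent.Lib.Helper4.FlatDimK1

/-- **S7624** -/
theorem S7624_main (R : Type u) [CommRing R] [IsDomain R] [ValuationRing R]
    (X : Scheme.{u}) [IrreducibleSpace ↥X] (f : X ⟶ Spec (CommRingCat.of R))
    [LocallyOfFiniteType f] [Surjective f]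
    (Z : Set ↥(f.fiber (IsLocalRing.closedPoint R)))
    (hZ : Z ∈ irreducibleComponents ↥(f.fiber (IsLocalRing.closedPoint R))) :
    topologicalKrullDim ↥Z =
      topologicalKrullDim ↥(f.fiber (⟨⊥, Ideal.isPrime_bot⟩ : PrimeSpectrum R)) := by
  have hV : IsAffineOpen (⊤ : (Spec (CommRingCat.of R)).Opens) := isAffineOpen_top _
  have hdiv := dvd_total_Γ_Spec R
  have hle : ∀ z : X, tr f z ≤ tr f (genericPoint X) := fun z =>
    tr_le_tr_of_dvd_total f hV hdiv (genericPoint X) z (genericPoint_specializes z) trivial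
  -- the generic point maps to the generic point
  have hgen : f (genericPoint X) = (⟨⊥, Ideal.isPrime_bot⟩ : PrimeSpectrum R) := by
    obtain ⟨x, hx⟩ := f.surjective (⟨⊥, Ideal.isPrime_bot⟩ : PrimeSpectrum R)
    have h1 : f (genericPoint X) ⤳ f x := (genericPoint_specializes x).map f.continuous
    rw [hx] at h1
    obtain ⟨p, hp⟩ : ∃ p : PrimeSpectrum R, p = f (genericPoint X) := ⟨_, rfl⟩
    rw [← hp] at h1 ⊢
    have h1' : p ⤳ (⟨⊥, Ideal.isPrime_bot⟩ : PrimeSpectrum R) := h1
    have h2 : p ≤ (⟨⊥, Ideal.isPrime_bot⟩ : PrimeSpectrum R) :=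
      (PrimeSpectrum.le_iff_specializes _ _).mpr h1'
    apply PrimeSpectrum.ext
    exact le_antisymm h2 bot_le
  -- the generic point of the component
  obtain ⟨w, hw, rfl⟩ := exists_isMax_closure_eq (f.fiber (IsLocalRing.closedPoint R)) Z hZ
  rw [dim_closure_of_field ((Spec (CommRingCat.of R)).residueField (IsLocalRing.closedPoint R))
    (f.fiberToSpecResidueField (IsLocalRing.closedPoint R)) w, tr_fiber]
  obtain ⟨z, hz⟩ : ∃ z : X, z = f.fiberι (IsLocalRing.closedPoint R) w := ⟨_, rfl⟩
  rw [← hz]
  have hmax : ∀ z' : X, f z' = f z → z' ⤳ z → z' = z := by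
    rw [hz]
    exact fibreMax_of_fiber_max f _ w (eq_of_isMax_of_specializes w hw)
  have h2 := tr_le_fibreDimAt_of_specializes_nn f z (genericPoint X) (genericPoint_specializes _)
  rw [fibreDimAt_eq_tr_of_max f z hmax] at h2
  have h3 : tr f (genericPoint X) ≤ tr f z := by exact_mod_cast h2
  rw [dim_fiber_eq_of_tr f _ (tr f (genericPoint X)) (fun z _ => hle z) (genericPoint X) hgen rfl]
  have h4 : tr f z = tr f (genericPoint X) := le_antisymm (hle z) h3
  rw [h4]

end Groth.Agent.Helper2.FibDim
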