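import Mathlib
import Groth.Prelude.Def_Flat
import Groth.Agent.Lib.Helper4.FibDimComp1

/-!
# Special and generic fibre of a finite type domain over a valuation ring (helper2)
-/

set_option autoImplicit false
set_option linter.style.haveILetI false
set_option linter.unusedSectionVars false
set_option backward.isDefEq.respectTransparency.types false
universe u

namespace Groth.Agent.Helper2.FibDim

open CategoryTheory CategoryTheory.Limits AlgebraicGeometry TensorProduct TopologicalSpace Topology

/-- the dimension of the fibre of a morphism of affine schemes is the dimension of the fibre ring -/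
theorem dim_fiber_Spec (R S : Type u) [CommRing R] [CommRing S] [Algebra R S]
    (p : PrimeSpectrum R) :
    topologicalKrullDim ↥((Spec.map (CommRingCat.ofHom (algebraMap R S))).fiber p) =
      ringKrullDim (p.asIdeal.Fiber S) := by
  obtain ⟨f, hf⟩ : ∃ f : Spec (CommRingCat.of S) ⟶ Spec (CommRingCat.of R),
      f = Spec.map (CommRingCat.ofHom (algebraMap R S)) := ⟨_, rfl⟩
  rw [← hf]
  have ι := Spec.fiberToSpecResidueFieldIso R S p
  rw [← hf] at ι
  let hm : ↥(f.fiber p) ≃ₜ ↥(Spec (CommRingCat.of (p.asIdeal.Fiber S))) :=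
    Scheme.homeoOfIso (Arrow.leftFunc.mapIso ι)
  rw [IsHomeomorph.topologicalKrullDim_eq hm hm.isHomeomorph]
  exact PrimeSpectrum.topologicalKrullDim_eq_ringKrullDim _

/-- the fibre of a morphism of affine schemes is the spectrum of the fibre ring -/
theorem nonempty_fiber_homeo (R S : Type u) [CommRing R] [CommRing S] [Algebra R S]
    (p : PrimeSpectrum R) :
    Nonempty (↥((Spec.map (CommRingCat.ofHom (algebraMap R S))).fiber p) ≃ₜ
      PrimeSpectrum (p.asIdeal.Fiber S)) := by
  obtain ⟨f, hf⟩ : ∃ f : Spec (CommRingCat.of S) ⟶ Spec (CommRingCat.of R),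
      f = Spec.map (CommRingCat.ofHom (algebraMap R S)) := ⟨_, rfl⟩
  rw [← hf]
  have ι := Spec.fiberToSpecResidueFieldIso R S p
  rw [← hf] at ι
  exact ⟨Scheme.homeoOfIso (Arrow.leftFunc.mapIso ι)⟩

/-- the fibre ring may be computed with any model of the residue field -/
theorem ringKrullDim_tensor_eq_fiber (R S : Type u) [CommRing R] [CommRing S] [Algebra R S]
    (p : Ideal R) [p.IsPrime] (L : Type u) [CommRing L] [Algebra R L]
    (e : L ≃ₐ[R] p.ResidueField) :
    ringKrullDim (L ⊗[R] S) = ringKrullDim (p.Fiber S) :=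
  ringKrullDim_eq_of_ringEquiv
    (Algebra.TensorProduct.congr e (AlgEquiv.refl (R := R) (A₁ := S))).toRingEquiv

/-- **S0444** -/
theorem S0444_main {R S : Type u} [CommRing R] [IsDomain R] [ValuationRing R] [CommRing S]
    [IsDomain S] [Algebra R S]
    (hinj : Function.Injective (algebraMap R S)) [Algebra.FiniteType R S]
    [Nontrivial (IsLocalRing.ResidueField R ⊗[R] S)] :
    ringKrullDim (IsLocalRing.ResidueField R ⊗[R] S) =
      ringKrullDim (FractionRing R ⊗[R] S) := by
  -- models of the residue fields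
  let e1 : IsLocalRing.ResidueField R ≃ₐ[R] (IsLocalRing.maximalIdeal R).ResidueField :=
    AlgEquiv.ofBijective
      (IsScalarTower.toAlgHom R (R ⧸ IsLocalRing.maximalIdeal R)
        (IsLocalRing.maximalIdeal R).ResidueField)
      (Ideal.bijective_algebraMap_quotient_residueField (IsLocalRing.maximalIdeal R))
  let e2 : FractionRing R ≃ₐ[R] (⊥ : Ideal R).ResidueField :=
    FractionRing.algEquiv R (⊥ : Ideal R).ResidueField
  rw [ringKrullDim_tensor_eq_fiber R S (IsLocalRing.maximalIdeal R) _ e1,
    ringKrullDim_tensor_eq_fiber R S (⊥ : Ideal R) _ e2]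
  -- the scheme picture
  obtain ⟨f, hf⟩ : ∃ f : Spec (CommRingCat.of S) ⟶ Spec (CommRingCat.of R),
      f = Spec.map (CommRingCat.ofHom (algebraMap R S)) := ⟨_, rfl⟩
  haveI : LocallyOfFiniteType f := by
    rw [hf, HasRingHomProperty.Spec_iff (P := @LocallyOfFiniteType)]
    rw [CommRingCat.hom_ofHom, RingHom.finiteType_algebraMap]
    infer_instance
  haveI : QuasiCompact f := by
    rw [hf]
    infer_instance
  haveI : IrreducibleSpace ↥(Spec (CommRingCat.of S)) :=
    inferInstanceAs (IrreducibleSpace (PrimeSpectrum S))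
  haveI : IsDominant f := by
    constructor
    rw [hf]
    change DenseRange (PrimeSpectrum.comap (algebraMap R S))
    rw [PrimeSpectrum.denseRange_comap_iff_ker_le_nilRadical]
    rw [(RingHom.injective_iff_ker_eq_bot _).mp hinj]
    exact bot_le
  have h1 := dim_fiber_Spec R S (IsLocalRing.closedPoint R)
  have h2 := dim_fiber_Spec R S (⟨⊥, Ideal.isPrime_bot⟩ : PrimeSpectrum R)
  rw [← hf] at h1 h2
  have h0 : Nonempty ↥(f.fiber (IsLocalRing.closedPoint R)) := by
    obtain ⟨hm⟩ := nonempty_fiber_homeo R S (IsLocalRing.closedPoint R)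
    rw [← hf] at hm
    haveI : Nontrivial ((IsLocalRing.maximalIdeal R).Fiber S) :=
      (Algebra.TensorProduct.congr e1
        (AlgEquiv.refl (R := R) (A₁ := S))).toRingEquiv.injective.nontrivial
    obtain ⟨Q⟩ : Nonempty (PrimeSpectrum ((IsLocalRing.maximalIdeal R).Fiber S)) :=
      inferInstance
    exact ⟨hm.symm Q⟩
  have key := Groth.Agent.Lib.Helper4.Val1.S4932_main f h0
  have hgen : genericPoint ↥(Spec (CommRingCat.of R)) =
      (⟨⊥, Ideal.isPrime_bot⟩ : PrimeSpectrum R) :=
    genericPoint_eq_bot_of_affine (CommRingCat.of R)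
  rw [hgen, h1, h2] at key
  exact key

end Groth.Agent.Helper2.FibDim
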